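import Cfsg.Agent.SzEight.Count
import Cfsg.Agent.Schur.Basic
import Cfsg.Agent.Schur.CoverBound

/-!
The Schur multiplier of the Suzuki group over the field with eight elements is a four group.
-/

set_option autoImplicit false
set_option linter.style.haveILetI false

namespace CfsgLib.SzEight

open CfsgLib.Schur.Pc (ev tailSubgroup)

theorem cert_eqs : cert.eqsCheck = true := by decide +kernel

theorem cert_lin : cert.linCheck = true := by decide +kernel

/-- The cyclic Sylow subgroups of odd order. -/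
def okOdd (p : ℕ) (w : List ℕ) : Bool :=
  weq (List.replicate p w).flatten [] &&
    !(Nat.beq (((wcode w).1.getD 0 []).getD 0 0 % 5) 1)

theorem okOdd_five : okOdd 5 [0, 2, 0, 9] = true := by decide +kernel

theorem okOdd_seven : okOdd 7 [8] = true := by decide +kernel

theorem okOdd_thirteen : okOdd 13 [1, 9] = true := by decide +kernel

theorem ev_flatten_replicate {M : Type*} [Monoid M] (y : ℕ → M) (w : List ℕ) :
    ∀ p, ev y (List.replicate p w).flatten = ev y w ^ p
  | 0 => by simp [Schur.Pc.ev_nil]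
  | p + 1 => by
    rw [List.replicate_succ, List.flatten_cons, Schur.Pc.ev_append, ev_flatten_replicate y w p,
      pow_succ']

universe u

variable {F : Type u} [Field F] [CharP F 2] [Fintype F] {α : F}

theorem two_part (hα : α ^ 3 = α + 1) (hF : Fintype.card F = 8) {Δ : Type u} [Group Δ] [Finite Δ]
    (σ : Δ →* cover hα) (hσ : Cfsg.IsStemExtension σ) (hexp : ∀ z ∈ σ.ker, z ^ 2 = 1) :
    σ.ker = ⊥ := by
  haveI := finite_cover hα
  obtain ⟨hall, -, hu⟩ := card_all hα hF
  refine Schur.Two.Cert.ker_eq_bot cert σ hσ hexp cert_eqs cert_lin (gen hα) ?_ ?_ ?_ ?_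
  · intro a b hab hb
    exact rules_hold hα a b hab (lt_of_lt_of_eq hb cert_n)
  · intro f hf
    refine ⟨gen hα 8, fun s hs => ?_⟩
    have hf0 : f = cert.fus.getD 0 ([], []) := by
      have hfus : cert.fus = [cert.fus.getD 0 ([], [])] := rfl
      rw [hfus, List.mem_singleton] at hf
      exact hf
    subst hf0
    by_cases h8 : s < 8
    · obtain ⟨h1, -, h2⟩ := fus_spec hα s h8
      rw [h1, ← gen_eq_ev]
      exact h2
    · have hl : (cert.fus.getD 0 ([], [])).1.length ≤ s ∧
          (cert.fus.getD 0 ([], [])).2.length ≤ s := ⟨not_lt.1 h8, not_lt.1 h8⟩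
      rw [List.getD_eq_default _ _ hl.1, List.getD_eq_default _ _ hl.2, Schur.Pc.ev_nil,
        mul_one, mul_inv_cancel]
  · rw [cert_n]
    exact le_of_eq hu.symm
  · rw [cert_n]
    intro hd
    have h := Subgroup.index_mul_card (tailSubgroup (gen hα) 8 0)
    rw [show Nat.card (tailSubgroup (gen hα) 8 0) = 256 from hu, hall] at h
    omega

theorem odd_part (hα : α ^ 3 = α + 1) (hF : Fintype.card F = 8) {p : ℕ} (hp : p.Prime)
    (w : List ℕ) (hok : okOdd p w = true) {m : ℕ} (hm : 116480 = p * m) (hmp : ¬ p ∣ m)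
    {Δ : Type u} [Group Δ] [Finite Δ]
    (σ : Δ →* cover hα) (hσ : Cfsg.IsStemExtension σ) (hexp : ∀ z ∈ σ.ker, z ^ p = 1) :
    σ.ker = ⊥ := by
  haveI := finite_cover hα
  haveI : Fact p.Prime := ⟨hp⟩
  simp only [okOdd, Bool.and_eq_true, Bool.not_eq_true'] at hok
  have hpow : ev (gen hα) w ^ p = 1 := by
    rw [← ev_flatten_replicate, ev_eq_of_weq hα hok.1, Schur.Pc.ev_nil]
  have hne : ev (gen hα) w ≠ 1 := by
    intro e
    have h1 := congrArg (fun g : cover hα => (g : (Amb F)ˣ).val.1 0 0) e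
    simp only [val_ev, sem, toMat, aval, Fin.val_zero, OneMemClass.coe_one, Units.val_one,
      Prod.fst_one, Matrix.one_apply_eq] at h1
    rw [← Nat.cast_one, ZMod.natCast_eq_natCast_iff'] at h1
    have h2 := hok.2
    rw [h1] at h2
    exact Bool.noConfusion h2
  refine Schur.ker_eq_bot_of_index_zpowers hp (ev (gen hα) w) ?_ σ hσ hexp
  have h := Subgroup.index_mul_card (Subgroup.zpowers (ev (gen hα) w))
  rw [Nat.card_zpowers, orderOf_eq_prime hpow hne, (card_all hα hF).1, hm, Nat.mul_comm] at h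
  rwa [Nat.eq_of_mul_eq_mul_left hp.pos h]

theorem cover_no_stem (hα : α ^ 3 = α + 1) (hF : Fintype.card F = 8) {Δ : Type u} [Group Δ]
    [Finite Δ] (σ : Δ →* cover hα) (hσ : Cfsg.IsStemExtension σ) : σ.ker = ⊥ := by
  by_contra hne
  obtain ⟨p, hp, hdvd⟩ := Nat.exists_prime_and_dvd
    (fun h : Nat.card σ.ker = 1 => hne (Subgroup.eq_bot_of_card_eq _ h))
  haveI : Fact p.Prime := ⟨hp⟩
  refine Schur.not_dvd_card_ker_of_exponent_p (G := cover hα) (p := p) ?_ σ hσ hdvd
  intro Γ _ _ ρ hρ hexp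
  have hd := Schur.prime_dvd_card_of_dvd_card_ker σ hσ hdvd
  rw [(card_all hα hF).1, show 116480 = 2 ^ 8 * (5 * (7 * 13)) by norm_num] at hd
  simp only [hp.dvd_mul] at hd
  rcases hd with h | h | h | h
  · obtain rfl := (Nat.prime_dvd_prime_iff_eq hp Nat.prime_two).1 (hp.dvd_of_dvd_pow h)
    exact two_part hα hF ρ hρ hexp
  · obtain rfl := (Nat.prime_dvd_prime_iff_eq hp Nat.prime_five).1 h
    exact odd_part hα hF hp _ okOdd_five (m := 23296) (by norm_num) (by norm_num) ρ hρ hexp
  · obtain rfl := (Nat.prime_dvd_prime_iff_eq hp (by norm_num)).1 h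
    exact odd_part hα hF hp _ okOdd_seven (m := 16640) (by norm_num) (by norm_num) ρ hρ hexp
  · obtain rfl := (Nat.prime_dvd_prime_iff_eq hp (by norm_num)).1 h
    exact odd_part hα hF hp _ okOdd_thirteen (m := 8960) (by norm_num) (by norm_num) ρ hρ hexp

/-- The four group onto the kernel of the cover. -/
theorem exists_ker_equiv (hα : α ^ 3 = α + 1) (hF : Fintype.card F = 8) :
    Nonempty ((toSz hα hF).ker ≃* Multiplicative (ZMod 2 × ZMod 2)) := by
  haveI := finite_cover hα
  have hsq : ∀ z, z = 6 ∨ z = 7 → gen hα z ^ 2 = 1 := by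
    intro z hz
    have hs : z < 10 := by omega
    have h := inv1_ok z hs
    rw [Bool.and_eq_true] at h
    have e := ev_eq_of_weq hα h.1
    rcases hz with rfl | rfl <;>
      simpa [inv1, pow_two, Schur.Pc.ev] using e
  have hadd : ∀ (g : cover hα), g ^ 2 = 1 → ∀ a b : ZMod 2,
      g ^ (a + b).val = g ^ a.val * g ^ b.val := by
    intro g hg a b
    rw [← pow_add, ZMod.val_add]
    exact (pow_eq_pow_mod (a.val + b.val) hg).symm
  have hc : ∀ g, Commute (gen hα 6) g := fun g =>
    (Subgroup.mem_center_iff.1 (gen_central hα (Or.inl rfl)) g).symm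
  let φ : Multiplicative (ZMod 2 × ZMod 2) →* (toSz hα hF).ker :=
    { toFun := fun v => ⟨gen hα 6 ^ (Multiplicative.toAdd v).1.val *
          gen hα 7 ^ (Multiplicative.toAdd v).2.val,
        mul_mem (Subgroup.pow_mem _ (gen_mem_ker hα hF (Or.inl rfl)) _)
          (Subgroup.pow_mem _ (gen_mem_ker hα hF (Or.inr rfl)) _)⟩
      map_one' := Subtype.ext (by simp)
      map_mul' := fun v w => Subtype.ext (by
        simp only [toAdd_mul, Prod.fst_add, Prod.snd_add, Subgroup.coe_mul,
          hadd _ (hsq 6 (Or.inl rfl)), hadd _ (hsq 7 (Or.inr rfl))]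
        exact Commute.mul_mul_mul_comm ((hc _).pow_left _) _ _) }
  have hs : Function.Surjective φ := by
    rw [← MonoidHom.range_eq_top]
    refine Subgroup.map_injective (toSz hα hF).ker.subtype_injective ?_
    rw [← MonoidHom.range_eq_map, Subgroup.range_subtype]
    refine le_antisymm (fun x hx => by
      obtain ⟨y, -, rfl⟩ := hx; exact y.2) ?_
    refine le_trans (le_of_eq (ker_eq hα hF)) ((Subgroup.closure_le _).2 ?_)
    rintro x (rfl | rfl)
    · exact ⟨φ (Multiplicative.ofAdd (1, 0)), ⟨_, rfl⟩, by simp [φ, ZMod.val_one]⟩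
    · exact ⟨φ (Multiplicative.ofAdd (0, 1)), ⟨_, rfl⟩, by simp [φ, ZMod.val_one]⟩
  have hb : Function.Bijective φ := by
    refine (Nat.bijective_iff_surjective_and_card φ).2 ⟨hs, ?_⟩
    rw [(card_all hα hF).2.1, Nat.card_congr Multiplicative.toAdd, Nat.card_prod, Nat.card_zmod]
  exact ⟨(MulEquiv.ofBijective φ hb).symm⟩

omit [CharP F 2] in
/-- The Schur multiplier of `Sz(8)` is a four group. -/
theorem multiplier_suzuki_eight (hF : Fintype.card F = 8) :
    Cfsg.HasSchurMultiplier ↥(Cfsg.Lie.Sz F 4) (Multiplicative (ZMod 2 × ZMod 2)) := by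
  haveI := charP_two hF
  obtain ⟨α, hα⟩ := exists_root hF
  haveI := finite_cover hα
  obtain ⟨e⟩ := exists_ker_equiv hα hF
  have hperf := cover_perfect hα hF
  refine ⟨⟨cover hα, inferInstance, inferInstance, toSz hα hF,
    ⟨toSz_surjective hα hF, ker_le_center hα hF, fun x _ => hperf ▸ Subgroup.mem_top x⟩, ⟨e⟩⟩, ?_⟩
  intro Γ _ _ σ hσ
  let ι : commutator (cover hα) ≃* cover hα :=
    (MulEquiv.subgroupCongr hperf).trans Subgroup.topEquiv
  obtain ⟨π, hπ⟩ := Schur.exists_ker_surjective (toSz hα hF) (toSz_surjective hα hF)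
    (ker_le_center hα hF) (Group.isPerfect_def.mpr (suzuki_perfect hF))
    (fun Δ _ _ ρ hρ => by
      have hk : (ι.toMonoidHom.comp ρ).ker = ρ.ker := by
        ext x
        simp [MonoidHom.mem_ker]
      have := cover_no_stem hα hF (ι.toMonoidHom.comp ρ)
        ⟨ι.surjective.comp hρ.1, hk ▸ hρ.2.1, hk ▸ hρ.2.2⟩
      rwa [hk] at this) σ hσ
  let ψ : (toSz hα hF).ker →* ((toSz hα hF).comp (commutator (cover hα)).subtype).ker :=
    { toFun := fun z => ⟨⟨z.1, hperf ▸ Subgroup.mem_top z.1⟩, z.2⟩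
      map_one' := rfl
      map_mul' := fun _ _ => rfl }
  have hψ : Function.Surjective ψ := fun z => ⟨⟨z.1.1, z.2⟩, rfl⟩
  exact ⟨(π.comp ψ).comp e.symm.toMonoidHom, (hπ.comp hψ).comp e.symm.surjective⟩

end CfsgLib.SzEight
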