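import Cfsg.Agent.SzEight.Image
import Cfsg.Agent.Schur.PcClosure
import Mathlib.Algebra.Group.Subgroup.Pointwise

/-!
The cover has order four times the order of the Suzuki group, and its kernel is a four group.
-/

set_option autoImplicit false
set_option linter.style.haveILetI false

namespace CfsgLib.SzEight

open CfsgLib.Schur.Pc (ev tailSubgroup)
open scoped Pointwise

/-- The rules of the unipotent part hold. -/
def okRules : Bool :=
  (List.range 8).all fun b => (List.range (b + 1)).all fun a => weq [b, a] (cert.rule b a)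

/-- The torus normalises the unipotent part. -/
def okNormal : Bool :=
  weq [8, 8, 8, 8, 8, 8, 8] [] &&
    (List.range 8).all fun i =>
      let w := ((cert.fus.getD 0 ([], [])).2.getD i [])
      (w.all fun a => Nat.blt a 8) && weq [8, i] (w ++ [8]) &&
        ((cert.fus.getD 0 ([], [])).1.getD i [] == [i])

/-- Left multiplication permutes the cosets of the Borel subgroup. -/
def okCoset (s : ℕ) : Bool :=
  (List.range 65).all fun i =>
    match (cosetTable.getD s [])[i]? with
    | none => false
    | some q => Nat.blt q.1 65 && (q.2.all fun a => Nat.blt a 9) &&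
        weq (s :: reps.getD i []) (reps.getD q.1 [] ++ q.2)

theorem reps_zero : reps.getD 0 [] = [] := rfl

theorem okRules_true : okRules = true := by decide +kernel

theorem okNormal_true : okNormal = true := by decide +kernel

theorem okCoset_0 : okCoset 0 = true := by decide +kernel

theorem okCoset_1 : okCoset 1 = true := by decide +kernel

theorem okCoset_2 : okCoset 2 = true := by decide +kernel

theorem okCoset_3 : okCoset 3 = true := by decide +kernel

theorem okCoset_4 : okCoset 4 = true := by decide +kernel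

theorem okCoset_5 : okCoset 5 = true := by decide +kernel

theorem okCoset_6 : okCoset 6 = true := by decide +kernel

theorem okCoset_7 : okCoset 7 = true := by decide +kernel

theorem okCoset_8 : okCoset 8 = true := by decide +kernel

theorem okCoset_9 : okCoset 9 = true := by decide +kernel

theorem okCoset_true : ∀ s < 10, okCoset s = true := by
  intro s hs
  interval_cases s
  exacts [okCoset_0, okCoset_1, okCoset_2, okCoset_3, okCoset_4, okCoset_5, okCoset_6, okCoset_7,
    okCoset_8, okCoset_9]

theorem weq_central : ∀ s < 10, (weq [s, 6] [6, s] && weq [s, 7] [7, s]) = true := by decide +kernel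

theorem cert_shaped : Schur.Pc.shaped 2 8 cert.rules = true := by decide +kernel

theorem cert_n : cert.n = 8 := rfl

theorem key_four :
    (([[], [6], [7], [6, 7]] : List (List ℕ)).map fun w =>
      (((wcode w).1.getD 0 []).getD 0 0 % 5, ((wcode w).2.1.getD 0 []).getD 0 0 % 5)).Nodup := by
  decide +kernel

theorem comWords_ok : ∀ s < 2,
    (weq ((comWords.getD s ([], [])).1 ++ (comWords.getD s ([], [])).2)
      ([6 + s] ++ (comWords.getD s ([], [])).2 ++ (comWords.getD s ([], [])).1)) = true := by
  decide +kernel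

universe u

variable {F : Type u} [Field F] [CharP F 2] {α : F}

/-- The unipotent part. -/
def uPart (hα : α ^ 3 = α + 1) : Subgroup (cover hα) := tailSubgroup (gen hα) 8 0

theorem rules_hold (hα : α ^ 3 = α + 1) :
    ∀ a b, a ≤ b → b < 8 → gen hα b * gen hα a = ev (gen hα) (cert.rule b a) := by
  intro a b hab hb
  have h := okRules_true
  simp only [okRules, List.all_eq_true, List.mem_range] at h
  rw [← ev_eq_of_weq hα (h b hb a (by omega))]
  simp [Schur.Pc.ev]

theorem rules_list (hα : α ^ 3 = α + 1) :
    ∀ q ∈ cert.rules, ev (gen hα) q.1 = ev (gen hα) q.2 := by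
  intro q hq
  simp only [Schur.Two.Cert.rules, List.mem_flatMap, List.mem_map, List.mem_range] at hq
  obtain ⟨b, hb, a, ha, rfl⟩ := hq
  rw [← rules_hold hα a b (by omega) hb]
  simp [Schur.Pc.ev]

theorem fus_spec (hα : α ^ 3 = α + 1) : ∀ i < 8,
    (cert.fus.getD 0 ([], [])).1.getD i [] = [i] ∧
    ev (gen hα) ((cert.fus.getD 0 ([], [])).2.getD i []) ∈ uPart hα ∧
    gen hα 8 * gen hα i * (gen hα 8)⁻¹ = ev (gen hα) ((cert.fus.getD 0 ([], [])).2.getD i []) := by
  intro i hi
  have h := okNormal_true
  simp only [okNormal, Bool.and_eq_true, List.all_eq_true, List.mem_range, beq_iff_eq] at h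
  obtain ⟨⟨h1, h2⟩, h3⟩ := h.2 i hi
  refine ⟨h3, Schur.Pc.ev_mem _ fun a ha =>
    Schur.Pc.gen_mem_tailSubgroup _ (Nat.zero_le _) (Nat.le_of_ble_eq_true (h1 a ha)), ?_⟩
  rw [mul_inv_eq_iff_eq_mul]
  have e := ev_eq_of_weq hα h2
  rw [Schur.Pc.ev_append, Schur.Pc.ev_cons, ← gen_eq_ev, ← gen_eq_ev] at e
  exact e

variable [Fintype F]

/-- The Borel part. -/
def bPart (hα : α ^ 3 = α + 1) : Subgroup (cover hα) :=
  uPart hα ⊔ Subgroup.zpowers (gen hα 8)

theorem card_bPart_le (hα : α ^ 3 = α + 1) : Nat.card (bPart hα) ≤ Nat.card (uPart hα) * 7 := by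
  haveI := finite_cover hα
  have hmap : (uPart hα).map (MulAut.conj (gen hα 8)).toMonoidHom ≤ uPart hα := by
    rw [uPart, tailSubgroup, MonoidHom.map_closure, Subgroup.closure_le]
    rintro _ ⟨_, ⟨i, ⟨-, hi⟩, rfl⟩, rfl⟩
    have h := fus_spec hα i hi
    show gen hα 8 * gen hα i * (gen hα 8)⁻¹ ∈ uPart hα
    rw [h.2.2]
    exact h.2.1
  have heq : (uPart hα).map (MulAut.conj (gen hα 8)).toMonoidHom = uPart hα :=
    Subgroup.eq_of_le_of_card_ge hmap (le_of_eq (Subgroup.card_map_of_injective
      (MulEquiv.injective _)).symm)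
  have hn : gen hα 8 ∈ Subgroup.normalizer (uPart hα : Set (cover hα)) := by
    rw [Subgroup.mem_normalizer_iff]
    intro x
    constructor
    · exact fun hx => hmap ⟨x, hx, rfl⟩
    · intro hx
      rw [← heq] at hx
      obtain ⟨y, hy, e⟩ := hx
      rwa [← (MulAut.conj (gen hα 8)).injective e]
  have ht : (gen hα 8) ^ 7 = 1 := by
    have h := okNormal_true
    simp only [okNormal, Bool.and_eq_true] at h
    have := ev_eq_of_weq hα h.1
    rw [show ([8, 8, 8, 8, 8, 8, 8] : List ℕ) = List.replicate 7 8 from rfl,
      Schur.Pc.ev_replicate, Schur.Pc.ev_nil] at this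
    exact this
  have hmul : (bPart hα : Set (cover hα)) =
      (uPart hα : Set (cover hα)) * (Subgroup.zpowers (gen hα 8) : Set (cover hα)) :=
    Subgroup.coe_mul_of_right_le_normalizer_left _ _ (Subgroup.zpowers_le.mpr hn)
  calc Nat.card (bPart hα) = Nat.card ((uPart hα : Set (cover hα)) *
        (Subgroup.zpowers (gen hα 8) : Set (cover hα)) : Set (cover hα)) := by
          rw [← hmul]; rfl
    _ ≤ Nat.card (uPart hα) * Nat.card (Subgroup.zpowers (gen hα 8)) := Set.natCard_mul_le
    _ ≤ _ := Nat.mul_le_mul_left _ (by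
        rw [Nat.card_zpowers]; exact orderOf_le_of_pow_eq_one (by norm_num) ht)

theorem card_cover_le (hα : α ^ 3 = α + 1) :
    Nat.card (cover hα) ≤ 65 * Nat.card (bPart hα) := by
  haveI := finite_cover hα
  let f : Fin 65 × bPart hα → cover hα := fun q => ev (gen hα) (reps.getD q.1 []) * q.2
  have htab := okCoset_true
  simp only [okCoset, List.all_eq_true, List.mem_range] at htab
  have h0 := reps_zero
  have hstep : ∀ g ∈ Subgroup.closure (Set.range (gen hα)),
      ∀ x ∈ Set.range f, g * x ∈ Set.range f := by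
    intro g hg
    induction hg using Subgroup.closure_induction with
    | mem y hy =>
      obtain ⟨s, rfl⟩ := hy
      rcases Nat.lt_or_ge s 10 with hs | hs
      · rintro _ ⟨⟨i, b⟩, rfl⟩
        have ht := htab s hs i i.2
        rcases hq : (cosetTable.getD s [])[(i : ℕ)]? with _ | q
        · rw [hq] at ht; exact absurd ht Bool.false_ne_true
        · rw [hq] at ht
          simp only [Bool.and_eq_true, List.all_eq_true] at ht
          obtain ⟨⟨hj, hb⟩, he⟩ := ht
          have hbm : ev (gen hα) q.2 ∈ bPart hα := Schur.Pc.ev_mem _ fun a ha => by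
            rcases Nat.lt_or_ge a 8 with h8 | h8
            · exact Subgroup.mem_sup_left (Schur.Pc.gen_mem_tailSubgroup _ (Nat.zero_le _) h8)
            · have ha9 := Nat.le_of_ble_eq_true (hb a ha)
              obtain rfl : a = 8 := by omega
              exact Subgroup.mem_sup_right (Subgroup.mem_zpowers _)
          refine ⟨(⟨q.1, Nat.le_of_ble_eq_true hj⟩, ⟨_, mul_mem hbm b.2⟩), ?_⟩
          show ev (gen hα) (reps.getD q.1 []) * (ev (gen hα) q.2 * b) = gen hα s * f (i, b)
          have e := ev_eq_of_weq hα he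
          rw [Schur.Pc.ev_cons, Schur.Pc.ev_append] at e
          rw [← mul_assoc, ← e, mul_assoc]
      · intro x hx
        rwa [gen_eq_one hα hs, one_mul]
    | one => intro x hx; rwa [one_mul]
    | mul y z _ _ hy hz => intro x hx; rw [mul_assoc]; exact hy _ (hz _ hx)
    | inv y _ hy =>
      intro x hx
      let φ : Set.range f → Set.range f := fun w => ⟨y * w, hy _ w.2⟩
      have hi : Function.Injective φ := fun a b e =>
        Subtype.ext (mul_left_cancel (congrArg Subtype.val e))
      obtain ⟨w, hw⟩ := Finite.surjective_of_injective hi ⟨x, hx⟩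
      have : y * w = x := congrArg Subtype.val hw
      rw [← this, inv_mul_cancel_left]
      exact w.2
  have hone : (1 : cover hα) ∈ Set.range f := ⟨(⟨0, by norm_num⟩, 1), by
    show ev (gen hα) (reps.getD 0 []) * ((1 : bPart hα) : cover hα) = 1
    rw [h0, Schur.Pc.ev_nil]; exact mul_one _⟩
  have hsurj : Function.Surjective f := fun g => by
    have := hstep g (by rw [closure_gen]; trivial) 1 hone
    rwa [mul_one] at this
  have := Nat.card_le_card_of_surjective f hsurj
  rwa [Nat.card_prod, Nat.card_fin] at this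

theorem card_uPart_le (hα : α ^ 3 = α + 1) : Nat.card (uPart hα) ≤ 2 ^ 8 := by
  haveI := finite_cover hα
  exact Schur.Pc.card_tailSubgroup_le (gen hα) cert_shaped (rules_list hα) 8 0 rfl

omit [Fintype F] in
theorem gen_central (hα : α ^ 3 = α + 1) {z : ℕ} (hz : z = 6 ∨ z = 7) :
    gen hα z ∈ Subgroup.center (cover hα) := by
  have key : Subgroup.closure (Set.range (gen hα)) ≤ Subgroup.centralizer {gen hα z} := by
    rw [Subgroup.closure_le]
    rintro _ ⟨s, rfl⟩
    rw [SetLike.mem_coe, Subgroup.mem_centralizer_iff]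
    intro m hm
    rw [Set.mem_singleton_iff] at hm
    subst hm
    rcases Nat.lt_or_ge s 10 with hs | hs
    · have h := weq_central s hs
      rw [Bool.and_eq_true] at h
      rcases hz with rfl | rfl
      · simpa [Schur.Pc.ev] using (ev_eq_of_weq hα h.1).symm
      · simpa [Schur.Pc.ev] using (ev_eq_of_weq hα h.2).symm
    · rw [gen_eq_one hα hs, mul_one, one_mul]
  rw [closure_gen] at key
  rw [Subgroup.mem_center_iff]
  intro g
  exact (Subgroup.mem_centralizer_iff.1 (key (Subgroup.mem_top g)) _ rfl).symm

theorem gen_mem_ker (hα : α ^ 3 = α + 1) (hF : Fintype.card F = 8) {z : ℕ} (hz : z = 6 ∨ z = 7) :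
    gen hα z ∈ (toSz hα hF).ker := by
  rw [MonoidHom.mem_ker]
  exact Subtype.ext (central_eq_one hα z (by omega) (by omega))

omit [Fintype F] in
/-- The four central words give different elements. -/
theorem four_injective (hα : α ^ 3 = α + 1) :
    (([[], [6], [7], [6, 7]] : List (List ℕ)).map (ev (gen hα))).Nodup := by
  refine List.Nodup.of_map
    (fun g : cover hα => ((g : (Amb F)ˣ).val.1 0 0, (g : (Amb F)ˣ).val.2.1 0 0)) ?_
  rw [List.map_map]
  have h : (fun g : cover hα => ((g : (Amb F)ˣ).val.1 0 0, (g : (Amb F)ˣ).val.2.1 0 0)) ∘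
      ev (gen hα) = (fun q : ℕ × ℕ => ((q.1 : ZMod 5), (q.2 : ZMod 5))) ∘ fun w =>
        (((wcode w).1.getD 0 []).getD 0 0 % 5, ((wcode w).2.1.getD 0 []).getD 0 0 % 5) := by
    funext w
    simp only [Function.comp_apply, val_ev, sem, toMat, aval, ZMod.natCast_mod]
    rfl
  rw [h, ← List.map_map]
  refine List.Nodup.map_on ?_ key_four
  intro x hx y hy e
  simp only [List.mem_map] at hx hy
  obtain ⟨v, -, rfl⟩ := hx
  obtain ⟨w, -, rfl⟩ := hy
  simp only [Prod.mk.injEq, ZMod.natCast_eq_natCast_iff', Nat.mod_mod] at e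
  exact Prod.ext e.1 e.2

theorem card_all (hα : α ^ 3 = α + 1) (hF : Fintype.card F = 8) :
    Nat.card (cover hα) = 116480 ∧ Nat.card (toSz hα hF).ker = 4 ∧ Nat.card (uPart hα) = 256 := by
  haveI := finite_cover hα
  classical
  have h4 : 4 ≤ Nat.card (toSz hα hF).ker := by
    have hnd := four_injective hα
    have hsub : ∀ g ∈ ((([[], [6], [7], [6, 7]] : List (List ℕ)).map (ev (gen hα))).toFinset),
        g ∈ (toSz hα hF).ker := by
      intro g hg
      simp only [List.mem_toFinset, List.mem_map, List.mem_cons, List.not_mem_nil, or_false] at hg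
      obtain ⟨w, hw, rfl⟩ := hg
      refine Schur.Pc.ev_mem _ fun a ha => gen_mem_ker hα hF ?_
      rcases hw with rfl | rfl | rfl | rfl <;> simp at ha <;> omega
    have hc := List.toFinset_card_of_nodup hnd
    have := Nat.card_le_card_of_injective
      (fun g : ((([[], [6], [7], [6, 7]] : List (List ℕ)).map (ev (gen hα))).toFinset) =>
        (⟨g, hsub g g.2⟩ : (toSz hα hF).ker))
      (fun a b e => Subtype.ext (by simpa using e))
    rw [Nat.card_eq_finsetCard, hc] at this
    simpa using this
  have hidx : (toSz hα hF).ker.index = 29120 := by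
    rw [Subgroup.index_ker, MonoidHom.range_eq_top.mpr (toSz_surjective hα hF), Subgroup.card_top,
      card_suzuki hF]
  have hmul := Subgroup.card_mul_index (toSz hα hF).ker
  rw [hidx] at hmul
  have h1 := card_cover_le hα
  have h2 := card_bPart_le hα
  have h3 : Nat.card (uPart hα) ≤ 256 := by simpa only [Nat.reducePow] using card_uPart_le hα
  refine ⟨?_, ?_, ?_⟩ <;> omega

theorem ker_eq (hα : α ^ 3 = α + 1) (hF : Fintype.card F = 8) :
    (toSz hα hF).ker = Subgroup.closure {gen hα 6, gen hα 7} := by
  haveI := finite_cover hα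
  classical
  refine (Subgroup.eq_of_le_of_card_ge ?_ ?_).symm
  · rw [Subgroup.closure_le]
    rintro x (rfl | rfl)
    · exact gen_mem_ker hα hF (Or.inl rfl)
    · exact gen_mem_ker hα hF (Or.inr rfl)
  · rw [(card_all hα hF).2.1]
    have hsub : ∀ g ∈ ((([[], [6], [7], [6, 7]] : List (List ℕ)).map (ev (gen hα))).toFinset),
        g ∈ Subgroup.closure {gen hα 6, gen hα 7} := by
      intro g hg
      simp only [List.mem_toFinset, List.mem_map, List.mem_cons, List.not_mem_nil, or_false] at hg
      obtain ⟨w, hw, rfl⟩ := hg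
      refine Schur.Pc.ev_mem _ fun a ha => ?_
      rcases hw with rfl | rfl | rfl | rfl <;> simp at ha
      · subst ha; exact Subgroup.subset_closure (Or.inl rfl)
      · subst ha; exact Subgroup.subset_closure (Or.inr rfl)
      · rcases ha with rfl | rfl
        · exact Subgroup.subset_closure (Or.inl rfl)
        · exact Subgroup.subset_closure (Or.inr rfl)
    have := Nat.card_le_card_of_injective
      (fun g : ((([[], [6], [7], [6, 7]] : List (List ℕ)).map (ev (gen hα))).toFinset) =>
        (⟨g, hsub g g.2⟩ : Subgroup.closure {gen hα 6, gen hα 7}))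
      (fun a b e => Subtype.ext (by simpa using e))
    rw [Nat.card_eq_finsetCard, List.toFinset_card_of_nodup (four_injective hα)] at this
    simpa using this

theorem ker_le_center (hα : α ^ 3 = α + 1) (hF : Fintype.card F = 8) :
    (toSz hα hF).ker ≤ Subgroup.center (cover hα) := by
  rw [ker_eq hα hF, Subgroup.closure_le]
  rintro x (rfl | rfl)
  · exact gen_central hα (Or.inl rfl)
  · exact gen_central hα (Or.inr rfl)

omit [Fintype F] in
theorem gen_mem_commutator (hα : α ^ 3 = α + 1) {z : ℕ} (hz : z = 6 ∨ z = 7) :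
    gen hα z ∈ commutator (cover hα) := by
  have key : ∀ s < 2, gen hα (6 + s) ∈ commutator (cover hα) := by
    intro s hs
    have e := ev_eq_of_weq hα (comWords_ok s hs)
    rw [Schur.Pc.ev_append, Schur.Pc.ev_append, Schur.Pc.ev_append, ← gen_eq_ev, mul_assoc] at e
    have := Subgroup.commutator_mem_commutator
      (Subgroup.mem_top (ev (gen hα) (comWords.getD s ([], [])).1))
      (Subgroup.mem_top (ev (gen hα) (comWords.getD s ([], [])).2))
    rw [commutatorElement_def, e, ← commutator_def] at this
    simpa [mul_assoc] using this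
  rcases hz with rfl | rfl
  · exact key 0 (by norm_num)
  · exact key 1 (by norm_num)

theorem cover_perfect (hα : α ^ 3 = α + 1) (hF : Fintype.card F = 8) :
    commutator (cover hα) = ⊤ := by
  have hk : (toSz hα hF).ker ≤ commutator (cover hα) := by
    rw [ker_eq hα hF, Subgroup.closure_le]
    rintro x (rfl | rfl)
    · exact gen_mem_commutator hα (Or.inl rfl)
    · exact gen_mem_commutator hα (Or.inr rfl)
  have hm : (commutator (cover hα)).map (toSz hα hF) = ⊤ := by
    rw [commutator_def, Subgroup.map_commutator,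
      Subgroup.map_top_of_surjective _ (toSz_surjective hα hF), ← commutator_def, suzuki_perfect hF]
  rw [eq_top_iff]
  intro g _
  obtain ⟨c, hc, e⟩ := hm.ge (Subgroup.mem_top (toSz hα hF g))
  have : c⁻¹ * g ∈ commutator (cover hα) :=
    hk (by rw [MonoidHom.mem_ker, map_mul, map_inv, e, inv_mul_cancel])
  simpa using mul_mem hc this

end CfsgLib.SzEight
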