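import Cfsg.Agent.Schur.TwoCert

/-!
Generated data: generators of the fourfold cover of the Suzuki group over the field with eight elements
(two representations of degree eight in characteristic five and the natural one), cosets of a Borel
subgroup, and certificates.
-/

set_option autoImplicit false

namespace CfsgLib.SzEight

/-- Three coded matrices. -/
abbrev Tri : Type := List (List ℕ) × List (List ℕ) × List (List ℕ)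

/-- The generators: six unipotents, two central involutions, the torus, the Weyl element. -/
def gens : List Tri := [
    ([[1, 0, 0, 0, 0, 0, 0, 0], [0, 0, 0, 0, 4, 0, 0, 0], [0, 0, 4, 0, 0, 0, 0, 0], [0, 0, 0, 4, 0, 0, 0, 0], [0, 1, 0, 0, 0, 0, 0, 0], [0, 0, 0, 0, 0, 0, 0, 4], [0, 0, 0, 0, 0, 0, 1, 0], [0, 0, 0, 0, 0, 1, 0, 0]], [[1, 0, 0, 0, 0, 0, 0, 0], [0, 1, 0, 0, 0, 0, 0, 0], [0, 0, 0, 0, 4, 0, 0, 0], [0, 0, 0, 4, 0, 0, 0, 0], [0, 0, 1, 0, 0, 0, 0, 0], [0, 0, 0, 0, 0, 0, 0, 4], [0, 0, 0, 0, 0, 0, 4, 0], [0, 0, 0, 0, 0, 1, 0, 0]], [[1, 1, 1, 1], [0, 1, 1, 0], [0, 0, 1, 1], [0, 0, 0, 1]]),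
    ([[0, 1, 0, 0, 0, 0, 0, 0], [1, 0, 0, 0, 0, 0, 0, 0], [0, 0, 0, 0, 0, 4, 0, 0], [0, 0, 0, 0, 4, 0, 0, 0], [0, 0, 0, 4, 0, 0, 0, 0], [0, 0, 1, 0, 0, 0, 0, 0], [0, 0, 0, 0, 0, 0, 0, 1], [0, 0, 0, 0, 0, 0, 4, 0]], [[0, 0, 0, 0, 0, 0, 4, 0], [1, 0, 0, 0, 0, 0, 0, 0], [0, 0, 0, 0, 0, 0, 0, 1], [0, 4, 0, 0, 0, 0, 0, 0], [0, 0, 0, 0, 0, 1, 0, 0], [0, 0, 1, 0, 0, 0, 0, 0], [0, 0, 0, 1, 0, 0, 0, 0], [0, 0, 0, 0, 1, 0, 0, 0]], [[1, 2, 7, 5], [0, 1, 6, 0], [0, 0, 1, 2], [0, 0, 0, 1]]),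
    ([[0, 0, 0, 0, 0, 0, 1, 0], [0, 0, 0, 0, 0, 0, 0, 4], [1, 0, 0, 0, 0, 0, 0, 0], [0, 0, 1, 0, 0, 0, 0, 0], [0, 0, 0, 0, 0, 4, 0, 0], [0, 1, 0, 0, 0, 0, 0, 0], [0, 0, 0, 1, 0, 0, 0, 0], [0, 0, 0, 0, 1, 0, 0, 0]], [[0, 0, 0, 0, 4, 0, 0, 0], [0, 0, 0, 0, 0, 0, 0, 4], [1, 0, 0, 0, 0, 0, 0, 0], [0, 0, 1, 0, 0, 0, 0, 0], [0, 0, 0, 4, 0, 0, 0, 0], [0, 4, 0, 0, 0, 0, 0, 0], [0, 0, 0, 0, 0, 1, 0, 0], [0, 0, 0, 0, 0, 0, 1, 0]], [[1, 4, 3, 7], [0, 1, 2, 0], [0, 0, 1, 4], [0, 0, 0, 1]]),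
    ([[1, 0, 0, 0, 0, 0, 0, 0], [0, 4, 0, 0, 0, 0, 0, 0], [0, 0, 1, 0, 0, 0, 0, 0], [0, 0, 0, 1, 0, 0, 0, 0], [0, 0, 0, 0, 4, 0, 0, 0], [0, 0, 0, 0, 0, 4, 0, 0], [0, 0, 0, 0, 0, 0, 1, 0], [0, 0, 0, 0, 0, 0, 0, 4]], [[1, 0, 0, 0, 0, 0, 0, 0], [0, 1, 0, 0, 0, 0, 0, 0], [0, 0, 4, 0, 0, 0, 0, 0], [0, 0, 0, 1, 0, 0, 0, 0], [0, 0, 0, 0, 4, 0, 0, 0], [0, 0, 0, 0, 0, 4, 0, 0], [0, 0, 0, 0, 0, 0, 1, 0], [0, 0, 0, 0, 0, 0, 0, 4]], [[1, 0, 1, 1], [0, 1, 0, 1], [0, 0, 1, 0], [0, 0, 0, 1]]),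
    ([[0, 0, 0, 1, 0, 0, 0, 0], [0, 0, 0, 0, 1, 0, 0, 0], [0, 0, 0, 0, 0, 0, 1, 0], [1, 0, 0, 0, 0, 0, 0, 0], [0, 1, 0, 0, 0, 0, 0, 0], [0, 0, 0, 0, 0, 0, 0, 1], [0, 0, 1, 0, 0, 0, 0, 0], [0, 0, 0, 0, 0, 1, 0, 0]], [[0, 0, 0, 1, 0, 0, 0, 0], [0, 0, 0, 0, 0, 0, 4, 0], [0, 0, 0, 0, 1, 0, 0, 0], [1, 0, 0, 0, 0, 0, 0, 0], [0, 0, 1, 0, 0, 0, 0, 0], [0, 0, 0, 0, 0, 0, 0, 4], [0, 4, 0, 0, 0, 0, 0, 0], [0, 0, 0, 0, 0, 4, 0, 0]], [[1, 0, 2, 6], [0, 1, 0, 2], [0, 0, 1, 0], [0, 0, 0, 1]]),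
    ([[0, 0, 0, 1, 0, 0, 0, 0], [0, 0, 0, 0, 4, 0, 0, 0], [0, 0, 0, 0, 0, 0, 4, 0], [1, 0, 0, 0, 0, 0, 0, 0], [0, 4, 0, 0, 0, 0, 0, 0], [0, 0, 0, 0, 0, 0, 0, 1], [0, 0, 4, 0, 0, 0, 0, 0], [0, 0, 0, 0, 0, 1, 0, 0]], [[1, 0, 0, 0, 0, 0, 0, 0], [0, 4, 0, 0, 0, 0, 0, 0], [0, 0, 1, 0, 0, 0, 0, 0], [0, 0, 0, 1, 0, 0, 0, 0], [0, 0, 0, 0, 1, 0, 0, 0], [0, 0, 0, 0, 0, 4, 0, 0], [0, 0, 0, 0, 0, 0, 4, 0], [0, 0, 0, 0, 0, 0, 0, 4]], [[1, 0, 4, 2], [0, 1, 0, 4], [0, 0, 1, 0], [0, 0, 0, 1]]),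
    ([[4, 0, 0, 0, 0, 0, 0, 0], [0, 4, 0, 0, 0, 0, 0, 0], [0, 0, 4, 0, 0, 0, 0, 0], [0, 0, 0, 4, 0, 0, 0, 0], [0, 0, 0, 0, 4, 0, 0, 0], [0, 0, 0, 0, 0, 4, 0, 0], [0, 0, 0, 0, 0, 0, 4, 0], [0, 0, 0, 0, 0, 0, 0, 4]], [[1, 0, 0, 0, 0, 0, 0, 0], [0, 1, 0, 0, 0, 0, 0, 0], [0, 0, 1, 0, 0, 0, 0, 0], [0, 0, 0, 1, 0, 0, 0, 0], [0, 0, 0, 0, 1, 0, 0, 0], [0, 0, 0, 0, 0, 1, 0, 0], [0, 0, 0, 0, 0, 0, 1, 0], [0, 0, 0, 0, 0, 0, 0, 1]], [[1, 0, 0, 0], [0, 1, 0, 0], [0, 0, 1, 0], [0, 0, 0, 1]]),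
    ([[1, 0, 0, 0, 0, 0, 0, 0], [0, 1, 0, 0, 0, 0, 0, 0], [0, 0, 1, 0, 0, 0, 0, 0], [0, 0, 0, 1, 0, 0, 0, 0], [0, 0, 0, 0, 1, 0, 0, 0], [0, 0, 0, 0, 0, 1, 0, 0], [0, 0, 0, 0, 0, 0, 1, 0], [0, 0, 0, 0, 0, 0, 0, 1]], [[4, 0, 0, 0, 0, 0, 0, 0], [0, 4, 0, 0, 0, 0, 0, 0], [0, 0, 4, 0, 0, 0, 0, 0], [0, 0, 0, 4, 0, 0, 0, 0], [0, 0, 0, 0, 4, 0, 0, 0], [0, 0, 0, 0, 0, 4, 0, 0], [0, 0, 0, 0, 0, 0, 4, 0], [0, 0, 0, 0, 0, 0, 0, 4]], [[1, 0, 0, 0], [0, 1, 0, 0], [0, 0, 1, 0], [0, 0, 0, 1]]),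
    ([[3, 0, 2, 3, 0, 0, 3, 0], [3, 0, 3, 2, 0, 0, 3, 0], [0, 2, 0, 0, 3, 3, 0, 3], [3, 0, 3, 3, 0, 0, 2, 0], [2, 0, 3, 3, 0, 0, 3, 0], [0, 2, 0, 0, 2, 2, 0, 3], [0, 2, 0, 0, 3, 2, 0, 2], [0, 3, 0, 0, 3, 2, 0, 3]], [[0, 3, 0, 0, 0, 2, 3, 2], [0, 3, 0, 0, 0, 3, 2, 2], [2, 0, 2, 2, 2, 0, 0, 0], [0, 2, 0, 0, 0, 2, 2, 2], [2, 0, 3, 2, 3, 0, 0, 0], [2, 0, 3, 3, 2, 0, 0, 0], [0, 2, 0, 0, 0, 3, 3, 2], [2, 0, 2, 3, 3, 0, 0, 0]], [[3, 0, 0, 0], [0, 4, 0, 0], [0, 0, 7, 0], [0, 0, 0, 6]]),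
    ([[4, 0, 2, 2, 2, 1, 4, 4], [0, 1, 2, 0, 4, 2, 0, 4], [2, 2, 1, 0, 4, 2, 1, 4], [2, 0, 0, 1, 0, 4, 1, 3], [2, 4, 4, 0, 2, 4, 1, 3], [1, 2, 2, 4, 4, 4, 3, 0], [4, 0, 1, 1, 1, 3, 3, 2], [4, 4, 4, 3, 3, 0, 2, 4]], [[4, 0, 3, 1, 4, 3, 2, 4], [0, 4, 0, 1, 0, 1, 2, 3], [3, 0, 4, 0, 4, 3, 0, 4], [1, 1, 0, 2, 4, 3, 1, 3], [4, 0, 4, 4, 3, 4, 3, 2], [3, 1, 3, 3, 4, 1, 1, 0], [2, 2, 0, 1, 3, 1, 1, 1], [4, 3, 4, 3, 2, 0, 1, 1]], [[0, 0, 0, 1], [0, 0, 1, 0], [0, 1, 0, 0], [1, 0, 0, 0]])]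

/-- Coset representatives of the Borel subgroup. -/
def reps : List (List ℕ) := [
    [],
    [9],
    [5, 9],
    [4, 9],
    [4, 5, 9],
    [3, 9],
    [3, 5, 9],
    [3, 4, 9],
    [3, 4, 5, 9],
    [2, 9],
    [2, 5, 9],
    [2, 4, 9],
    [2, 4, 5, 9],
    [2, 3, 9],
    [2, 3, 5, 9],
    [2, 3, 4, 9],
    [2, 3, 4, 5, 9],
    [1, 9],
    [1, 5, 9],
    [1, 4, 9],
    [1, 4, 5, 9],
    [1, 3, 9],
    [1, 3, 5, 9],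
    [1, 3, 4, 9],
    [1, 3, 4, 5, 9],
    [1, 2, 9],
    [1, 2, 5, 9],
    [1, 2, 4, 9],
    [1, 2, 4, 5, 9],
    [1, 2, 3, 9],
    [1, 2, 3, 5, 9],
    [1, 2, 3, 4, 9],
    [1, 2, 3, 4, 5, 9],
    [0, 9],
    [0, 5, 9],
    [0, 4, 9],
    [0, 4, 5, 9],
    [0, 3, 9],
    [0, 3, 5, 9],
    [0, 3, 4, 9],
    [0, 3, 4, 5, 9],
    [0, 2, 9],
    [0, 2, 5, 9],
    [0, 2, 4, 9],
    [0, 2, 4, 5, 9],
    [0, 2, 3, 9],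
    [0, 2, 3, 5, 9],
    [0, 2, 3, 4, 9],
    [0, 2, 3, 4, 5, 9],
    [0, 1, 9],
    [0, 1, 5, 9],
    [0, 1, 4, 9],
    [0, 1, 4, 5, 9],
    [0, 1, 3, 9],
    [0, 1, 3, 5, 9],
    [0, 1, 3, 4, 9],
    [0, 1, 3, 4, 5, 9],
    [0, 1, 2, 9],
    [0, 1, 2, 5, 9],
    [0, 1, 2, 4, 9],
    [0, 1, 2, 4, 5, 9],
    [0, 1, 2, 3, 9],
    [0, 1, 2, 3, 5, 9],
    [0, 1, 2, 3, 4, 9],
    [0, 1, 2, 3, 4, 5, 9]]

/-- For each generator and representative: new representative and remainder. -/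
def cosetTable : List (List (ℕ × List ℕ)) := [
    [(0, [0]), (33, []), (34, []), (35, []), (36, []), (37, []), (38, []), (39, []), (40, []), (41, []), (42, []), (43, []), (44, []), (45, []), (46, []), (47, []), (48, []), (49, []), (50, []), (51, []), (52, []), (53, []), (54, []), (55, []), (56, []), (57, []), (58, []), (59, []), (60, []), (61, []), (62, []), (63, []), (64, []), (5, []), (6, []), (7, []), (8, []), (1, []), (2, []), (3, []), (4, []), (13, [7]), (14, [7]), (15, [7]), (16, [7]), (9, [7]), (10, [7]), (11, [7]), (12, [7]), (21, [6]), (22, [6]), (23, [6]), (24, [6]), (17, [6]), (18, [6]), (19, [6]), (20, [6]), (29, [6, 7]), (30, [6, 7]), (31, [6, 7]), (32, [6, 7]), (25, [6, 7]), (26, [6, 7]), (27, [6, 7]), (28, [6, 7])],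
    [(0, [1]), (17, []), (18, []), (19, []), (20, []), (21, []), (22, []), (23, []), (24, []), (25, []), (26, []), (27, []), (28, []), (29, []), (30, []), (31, []), (32, []), (8, [7]), (7, [7]), (6, [7]), (5, [7]), (4, [7]), (3, [7]), (2, [7]), (1, [7]), (16, [6, 7]), (15, [6, 7]), (14, [6, 7]), (13, [6, 7]), (12, [6, 7]), (11, [6, 7]), (10, [6, 7]), (9, [6, 7]), (50, []), (49, []), (52, []), (51, []), (54, []), (53, []), (56, []), (55, []), (58, [6]), (57, [6]), (60, [6]), (59, [6]), (62, [6]), (61, [6]), (64, [6]), (63, [6]), (39, []), (40, []), (37, []), (38, []), (35, []), (36, []), (33, []), (34, []), (47, []), (48, []), (45, []), (46, []), (43, []), (44, []), (41, []), (42, [])],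
    [(0, [2]), (9, []), (10, []), (11, []), (12, []), (13, []), (14, []), (15, []), (16, []), (7, []), (8, []), (5, []), (6, []), (3, []), (4, []), (1, []), (2, []), (29, [7]), (30, [7]), (31, [7]), (32, [7]), (25, [7]), (26, [7]), (27, [7]), (28, [7]), (19, []), (20, []), (17, []), (18, []), (23, []), (24, []), (21, []), (22, []), (44, [6]), (43, [6]), (42, [6]), (41, [6]), (48, [6]), (47, [6]), (46, [6]), (45, [6]), (38, [7]), (37, [7]), (40, [7]), (39, [7]), (34, [7]), (33, [7]), (36, [7]), (35, [7]), (64, [7]), (63, [7]), (62, [7]), (61, [7]), (60, [7]), (59, [7]), (58, [7]), (57, [7]), (50, [6, 7]), (49, [6, 7]), (52, [6, 7]), (51, [6, 7]), (54, [6, 7]), (53, [6, 7]), (56, [6, 7]), (55, [6, 7])],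
    [(0, [3]), (5, []), (6, []), (7, []), (8, []), (1, []), (2, []), (3, []), (4, []), (13, [7]), (14, [7]), (15, [7]), (16, [7]), (9, [7]), (10, [7]), (11, [7]), (12, [7]), (21, [6]), (22, [6]), (23, [6]), (24, [6]), (17, [6]), (18, [6]), (19, [6]), (20, [6]), (29, [6, 7]), (30, [6, 7]), (31, [6, 7]), (32, [6, 7]), (25, [6, 7]), (26, [6, 7]), (27, [6, 7]), (28, [6, 7]), (37, []), (38, []), (39, []), (40, []), (33, []), (34, []), (35, []), (36, []), (45, [7]), (46, [7]), (47, [7]), (48, [7]), (41, [7]), (42, [7]), (43, [7]), (44, [7]), (53, [6]), (54, [6]), (55, [6]), (56, [6]), (49, [6]), (50, [6]), (51, [6]), (52, [6]), (61, [6, 7]), (62, [6, 7]), (63, [6, 7]), (64, [6, 7]), (57, [6, 7]), (58, [6, 7]), (59, [6, 7]), (60, [6, 7])],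
    [(0, [4]), (3, []), (4, []), (1, []), (2, []), (7, []), (8, []), (5, []), (6, []), (11, [7]), (12, [7]), (9, [7]), (10, [7]), (15, [7]), (16, [7]), (13, [7]), (14, [7]), (19, [6, 7]), (20, [6, 7]), (17, [6, 7]), (18, [6, 7]), (23, [6, 7]), (24, [6, 7]), (21, [6, 7]), (22, [6, 7]), (27, [6]), (28, [6]), (25, [6]), (26, [6]), (31, [6]), (32, [6]), (29, [6]), (30, [6]), (35, [6, 7]), (36, [6, 7]), (33, [6, 7]), (34, [6, 7]), (39, [6, 7]), (40, [6, 7]), (37, [6, 7]), (38, [6, 7]), (43, [6]), (44, [6]), (41, [6]), (42, [6]), (47, [6]), (48, [6]), (45, [6]), (46, [6]), (51, []), (52, []), (49, []), (50, []), (55, []), (56, []), (53, []), (54, []), (59, [7]), (60, [7]), (57, [7]), (58, [7]), (63, [7]), (64, [7]), (61, [7]), (62, [7])],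
    [(0, [5]), (2, []), (1, []), (4, []), (3, []), (6, []), (5, []), (8, []), (7, []), (10, [6]), (9, [6]), (12, [6]), (11, [6]), (14, [6]), (13, [6]), (16, [6]), (15, [6]), (18, [7]), (17, [7]), (20, [7]), (19, [7]), (22, [7]), (21, [7]), (24, [7]), (23, [7]), (26, [6, 7]), (25, [6, 7]), (28, [6, 7]), (27, [6, 7]), (30, [6, 7]), (29, [6, 7]), (32, [6, 7]), (31, [6, 7]), (34, [6]), (33, [6]), (36, [6]), (35, [6]), (38, [6]), (37, [6]), (40, [6]), (39, [6]), (42, []), (41, []), (44, []), (43, []), (46, []), (45, []), (48, []), (47, []), (50, [6, 7]), (49, [6, 7]), (52, [6, 7]), (51, [6, 7]), (54, [6, 7]), (53, [6, 7]), (56, [6, 7]), (55, [6, 7]), (58, [7]), (57, [7]), (60, [7]), (59, [7]), (62, [7]), (61, [7]), (64, [7]), (63, [7])],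
    [(0, [6]), (1, [6]), (2, [6]), (3, [6]), (4, [6]), (5, [6]), (6, [6]), (7, [6]), (8, [6]), (9, [6]), (10, [6]), (11, [6]), (12, [6]), (13, [6]), (14, [6]), (15, [6]), (16, [6]), (17, [6]), (18, [6]), (19, [6]), (20, [6]), (21, [6]), (22, [6]), (23, [6]), (24, [6]), (25, [6]), (26, [6]), (27, [6]), (28, [6]), (29, [6]), (30, [6]), (31, [6]), (32, [6]), (33, [6]), (34, [6]), (35, [6]), (36, [6]), (37, [6]), (38, [6]), (39, [6]), (40, [6]), (41, [6]), (42, [6]), (43, [6]), (44, [6]), (45, [6]), (46, [6]), (47, [6]), (48, [6]), (49, [6]), (50, [6]), (51, [6]), (52, [6]), (53, [6]), (54, [6]), (55, [6]), (56, [6]), (57, [6]), (58, [6]), (59, [6]), (60, [6]), (61, [6]), (62, [6]), (63, [6]), (64, [6])],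
    [(0, [7]), (1, [7]), (2, [7]), (3, [7]), (4, [7]), (5, [7]), (6, [7]), (7, [7]), (8, [7]), (9, [7]), (10, [7]), (11, [7]), (12, [7]), (13, [7]), (14, [7]), (15, [7]), (16, [7]), (17, [7]), (18, [7]), (19, [7]), (20, [7]), (21, [7]), (22, [7]), (23, [7]), (24, [7]), (25, [7]), (26, [7]), (27, [7]), (28, [7]), (29, [7]), (30, [7]), (31, [7]), (32, [7]), (33, [7]), (34, [7]), (35, [7]), (36, [7]), (37, [7]), (38, [7]), (39, [7]), (40, [7]), (41, [7]), (42, [7]), (43, [7]), (44, [7]), (45, [7]), (46, [7]), (47, [7]), (48, [7]), (49, [7]), (50, [7]), (51, [7]), (52, [7]), (53, [7]), (54, [7]), (55, [7]), (56, [7]), (57, [7]), (58, [7]), (59, [7]), (60, [7]), (61, [7]), (62, [7]), (63, [7]), (64, [7])],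
    [(0, [8]), (1, [8, 8, 8, 8, 8, 8]), (5, [7, 8, 8, 8, 8, 8, 8]), (6, [7, 8, 8, 8, 8, 8, 8]), (2, [8, 8, 8, 8, 8, 8]), (8, [7, 8, 8, 8, 8, 8, 8]), (4, [8, 8, 8, 8, 8, 8]), (3, [8, 8, 8, 8, 8, 8]), (7, [7, 8, 8, 8, 8, 8, 8]), (51, [8, 8, 8, 8, 8, 8]), (55, [7, 8, 8, 8, 8, 8, 8]), (56, [7, 8, 8, 8, 8, 8, 8]), (52, [8, 8, 8, 8, 8, 8]), (54, [7, 8, 8, 8, 8, 8, 8]), (50, [8, 8, 8, 8, 8, 8]), (49, [8, 8, 8, 8, 8, 8]), (53, [7, 8, 8, 8, 8, 8, 8]), (9, [6, 8, 8, 8, 8, 8, 8]), (13, [6, 7, 8, 8, 8, 8, 8, 8]), (14, [6, 7, 8, 8, 8, 8, 8, 8]), (10, [6, 8, 8, 8, 8, 8, 8]), (16, [6, 7, 8, 8, 8, 8, 8, 8]), (12, [6, 8, 8, 8, 8, 8, 8]), (11, [6, 8, 8, 8, 8, 8, 8]), (15, [6, 7, 8, 8, 8, 8, 8, 8]), (62, [6, 7, 8, 8, 8, 8, 8, 8]), (58, [6, 8, 8, 8, 8, 8, 8]), (57, [6, 8, 8, 8, 8, 8, 8]), (61, [6, 7, 8, 8, 8, 8, 8, 8]), (59, [6, 8,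 8, 8, 8, 8, 8]), (63, [6, 7, 8, 8, 8, 8, 8, 8]), (64, [6, 7, 8, 8, 8, 8, 8, 8]), (60, [6, 8, 8, 8, 8, 8, 8]), (17, [8, 8, 8, 8, 8, 8]), (21, [7, 8, 8, 8, 8, 8, 8]), (22, [7, 8, 8, 8, 8, 8, 8]), (18, [8, 8, 8, 8, 8, 8]), (24, [7, 8, 8, 8, 8, 8, 8]), (20, [8, 8, 8, 8, 8, 8]), (19, [8, 8, 8, 8, 8, 8]), (23, [7, 8, 8, 8, 8, 8, 8]), (37, [8, 8, 8, 8, 8, 8]), (33, [7, 8, 8, 8, 8, 8, 8]), (34, [7, 8, 8, 8, 8, 8, 8]), (38, [8, 8, 8, 8, 8, 8]), (36, [7, 8, 8, 8, 8, 8, 8]), (40, [8, 8, 8, 8, 8, 8]), (39, [8, 8, 8, 8, 8, 8]), (35, [7, 8, 8, 8, 8, 8, 8]), (25, [6, 8, 8, 8, 8, 8, 8]), (29, [6, 7, 8, 8, 8, 8, 8, 8]), (30, [6, 7, 8, 8, 8, 8, 8, 8]), (26, [6, 8, 8, 8, 8, 8, 8]), (32, [6, 7, 8, 8, 8, 8, 8, 8]), (28, [6, 8, 8, 8, 8, 8, 8]), (27, [6, 8, 8, 8, 8, 8, 8]), (31, [6, 7, 8, 8, 8, 8, 8, 8]), (44, [6, 7, 8, 8, 8, 8, 8, 8]),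 (48, [6, 8, 8, 8, 8, 8, 8]), (47, [6, 8, 8, 8, 8, 8, 8]), (43, [6, 7, 8, 8, 8, 8, 8, 8]), (45, [6, 8, 8, 8, 8, 8, 8]), (41, [6, 7, 8, 8, 8, 8, 8, 8]), (42, [6, 7, 8, 8, 8, 8, 8, 8]), (46, [6, 8, 8, 8, 8, 8, 8])],
    [(1, []), (0, []), (17, [0, 2, 8, 8, 8, 8, 8]), (30, [0, 1, 6, 8, 8, 8, 8, 8, 8]), (9, [0, 1, 2, 3, 5, 7, 8, 8, 8]), (33, [0, 3, 7]), (51, [1, 2, 6, 8]), (63, [2, 3, 4, 7, 8, 8, 8, 8]), (42, [1, 3, 4, 5, 8, 8]), (4, [2, 8, 8, 8, 8]), (45, [0, 1, 4, 5, 7, 8]), (35, [1, 2, 3, 4, 5, 7, 8, 8, 8, 8, 8]), (40, [1, 4, 5, 6, 7, 8, 8, 8, 8, 8, 8]), (44, [0, 1, 2, 4, 6, 7, 8, 8, 8, 8, 8]), (16, [0, 2, 3, 8, 8, 8, 8, 8, 8]), (62, [3, 4, 8, 8, 8, 8]), (14, [0, 3, 4, 5, 8]), (2, [1, 8, 8]), (38, [1, 2, 3, 6, 8, 8, 8]), (53, [0, 1, 2, 3, 8, 8, 8, 8]), (36, [2, 4, 5, 6, 8, 8, 8, 8, 8, 8]), (50, [0, 2, 3, 5, 6, 7,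 8, 8, 8, 8, 8, 8]), (23, [0, 3, 5, 8, 8, 8, 8]), (22, [0, 1, 3, 7, 8, 8, 8]), (41, [3, 4, 5, 7, 8, 8]), (49, [3, 5, 6, 8]), (64, [0, 1, 3, 4, 8, 8, 8]), (28, [0, 1, 2, 5, 6, 7, 8, 8, 8, 8, 8]), (27, [0, 3, 4, 6, 7, 8, 8]), (34, [1, 5, 8, 8, 8]), (3, [1, 2, 3, 5, 7, 8]), (58, [0, 2, 4, 7, 8, 8]), (39, [2, 4, 6, 8, 8, 8, 8, 8]), (5, [0, 7]), (29, [0, 1, 2, 3, 4, 5, 6, 7, 8, 8, 8, 8]), (11, [0, 2, 4, 5, 6, 7, 8, 8]), (20, [0, 1, 5, 7, 8]), (37, [3, 7]), (18, [1, 3, 5, 8, 8, 8, 8]), (32, [1, 2, 4, 5, 8, 8]), (12, [2, 3, 4, 5, 6, 7, 8]), (24, [5, 7, 8, 8, 8, 8, 8]), (8, [0, 2, 5, 8, 8, 8, 8, 8]), (59, [1, 2, 3, 4, 6, 7, 8, 8]), (13, [0, 4, 6, 8, 8]), (10, [2, 3, 5, 6, 8, 8, 8, 8, 8, 8]), (52, [1, 3, 8, 8, 8, 8, 8, 8]), (60, [0, 1, 3, 5]), (56, [0, 1, 2]), (25, [4, 6, 7, 8, 8, 8, 8, 8, 8]), (21, [0, 4, 5, 6, 8]), (6,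 [0, 1, 4, 8, 8, 8, 8, 8, 8]), (46, [2, 5, 7, 8]), (19, [1, 3, 4, 6, 7, 8, 8, 8]), (57, [0, 2, 3, 4, 6, 7]), (61, [1, 2, 5, 8, 8, 8]), (48, [0, 1, 2, 4, 5, 6, 7]), (54, [0, 2, 3, 4, 5, 7]), (31, [1, 2, 4, 6, 7, 8, 8, 8, 8, 8]), (43, [2, 3, 8, 8, 8, 8, 8]), (47, [0, 1, 3, 4, 5, 7]), (55, [1, 4, 6, 8, 8, 8, 8]), (15, [4, 5, 7, 8, 8, 8]), (7, [0, 1, 2, 3, 4, 7, 8, 8, 8]), (26, [0, 5, 7, 8, 8, 8, 8])]]

/-- Words for the root elements. -/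
def uWords : List (List (List ℕ)) := [
    [[], [3], [4], [3, 4], [5], [3, 5], [4, 5], [3, 4, 5]],
    [[0], [0, 3], [0, 4], [0, 3, 4], [0, 5], [0, 3, 5], [0, 4, 5], [0, 3, 4, 5]],
    [[1], [1, 3], [1, 4], [1, 3, 4], [1, 5], [1, 3, 5], [1, 4, 5], [1, 3, 4, 5]],
    [[0, 1, 4], [0, 1, 3, 4], [0, 1], [0, 1, 3], [0, 1, 4, 5], [0, 1, 3, 4, 5], [0, 1, 5], [0, 1, 3, 5]],
    [[2], [2, 3], [2, 4], [2, 3, 4], [2, 5], [2, 3, 5], [2, 4, 5], [2, 3, 4, 5]],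
    [[0, 2, 5], [0, 2, 3, 5], [0, 2, 4, 5], [0, 2, 3, 4, 5], [0, 2], [0, 2, 3], [0, 2, 4], [0, 2, 3, 4]],
    [[1, 2, 3, 5], [1, 2, 5], [1, 2, 3, 4, 5], [1, 2, 4, 5], [1, 2, 3], [1, 2], [1, 2, 3, 4], [1, 2, 4]],
    [[0, 1, 2, 3, 4], [0, 1, 2, 4], [0, 1, 2, 3], [0, 1, 2], [0, 1, 2, 3, 4, 5], [0, 1, 2, 4, 5], [0, 1, 2, 3, 5], [0, 1, 2, 5]]]

/-- Words for the torus: code, code of the inverse, word. -/
def tWords : List (ℕ × ℕ × List ℕ) := [(1, 1, []), (2, 5, [8]), (3, 6, [8, 8, 8]), (4, 7, [8, 8]), (5, 2, [8, 8, 8, 8, 8, 8]), (6, 3, [8, 8, 8, 8]), (7, 4, [8, 8, 8, 8, 8])]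

/-- Commutators giving the central involutions. -/
def comWords : List (List ℕ × List ℕ) := [([5], [2, 7]), ([5], [1, 6])]

/-- Elements of odd prime order with a separating entry. -/
def oddWords : List (ℕ × List ℕ × ℕ × ℕ) := [(5, [0, 2, 0, 9], 0, 0), (7, [8], 0, 0), (13, [1, 9], 0, 0)]

/-- Certificate for the `2`-part. -/
def cert : Schur.Two.Cert where
  n := 8
  rows := [
    [[3]],
    [[0, 1, 5], [3, 4, 5, 7]],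
    [[0, 2, 4, 5, 6], [1, 2, 3, 7], [3, 4]],
    [[0, 3], [1, 3, 6], [2, 3, 7], []],
    [[0, 4, 6, 7], [1, 4, 6, 7], [2, 4, 7], [3, 4], []],
    [[0, 5, 6], [1, 5, 7], [2, 5, 6], [3, 5], [4, 5], []],
    [[0, 6], [1, 6], [2, 6], [3, 6], [4, 6], [5, 6], []],
    [[0, 7], [1, 7], [2, 7], [3, 7], [4, 7], [5, 7], [6, 7], []]]
  fus := [([[0], [1], [2], [3], [4], [5], [6], [7]], [[1], [2, 6], [0, 1, 4], [3, 4, 5, 7], [3, 5, 7], [3, 7], [6], [7]])]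
  assoc := [(0, 0, 0), (1, 0, 0), (1, 1, 0), (1, 1, 1), (2, 0, 0), (2, 1, 0), (2, 1, 1), (2, 2, 0), (2, 2, 1), (2, 2, 2), (3, 1, 0), (3, 1, 1), (3, 2, 0), (3, 2, 1), (3, 2, 2), (3, 3, 1), (3, 3, 2), (4, 0, 0), (4, 1, 0), (4, 1, 1), (4, 2, 0), (4, 2, 1), (4, 3, 0), (4, 3, 1), (5, 0, 0)]
  fusEq := [(0, [0, 0], [3]), (0, [1, 0], [0, 1, 5]), (0, [1, 1], [3, 4, 5, 7]), (0, [2, 0], [0, 2, 4, 5, 6]), (0, [2, 1], [1, 2, 3, 7]), (0, [2, 2], [3, 4]), (0, [3, 1], [1, 3, 6]), (0, [3, 2], [2, 3, 7]), (0, [3, 3], []), (0, [4, 1], [1, 4, 6, 7]), (0, [4, 4], [])]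
  eqs := [281474976710656, 5070642295464965451699531546624, 337506901750677587364428811419516928, 841158429338061105502228244571619328, 830768844303572841815510485452193792, 919037970094186299507218587978825728, 155773976363281518842896337900404736, 415389136260701710259263807288246272, 685389523579598425010461796066131968, 747690747629015252296493666152742912, 2614539034377280057620348010496, 41543603936676116605394767608545280, 586730178849407190269516456627535872, 10385544455019826429112115185844224, 685383185326597394539978105133465600, 5704427701027032306735164424192, 706152372760736557480147500773933056, 1002118443527785307062281961572663296, 15577128279434838792438336414810112, 1090387569370382704125472059508654080, 358271335472096432998591681093697536, 114231481625716526573674631446659072, 41539008693578735142944718985363456,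 373847275290407931598297980758654976, 5149840234833738860613754421248, 926336713898529563388567880069503262826159877325124512315660672063305037250561, 3705346855594118253554271520278013051304639841608289277116753557580929248067584, 21305744419666179957937061241598575045001677386175125688061303360469213993107456, 12968713994579413887439950320973045679566239570241364159174235717837803827036160, 15747724136275002577605653961181555468044718205301524493955410173864159832178688, 2779010141695588690165703640208509788478480556206749659764958480787931129905153, 7410693711188236507108543040556026102609279787065367943616350269048796880044032, 14821387422376473014217086081112052205218559039319088869042781236436252204466176, 955382622038108572269888327389282304, 22232081133564709521325629121668078307827837242728844334165961503193494525575168,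 872305872282208369527865529463734272]
  adj := [0, 0, 0, 1, 8590131200, 65536, 12885032960, 8589934593]
  combo := [[[]], [[], []], [[], [], [4, 7, 9, 10, 11, 16, 18, 19, 21, 22, 23, 26, 28, 29, 30, 31, 32]], [[0], [0, 1, 2, 3, 8, 9, 13, 14, 16, 18, 22, 25, 26, 27, 29, 30, 33, 35], [0, 1, 2, 9, 11, 13, 16, 18, 19, 22, 23, 24, 26, 27, 30, 31, 34, 35], [0, 3, 4, 8, 9, 10, 11, 14, 17, 19, 22, 23, 24, 31, 32, 33, 34]], [[1, 2, 3, 5, 6, 9, 10, 11, 12, 13, 17, 21, 22, 23, 24, 25, 29, 31, 33, 34], [3, 4, 5, 6, 8, 10, 11, 13, 14, 17, 18, 19, 21, 23, 24, 25, 29, 32, 33, 35], [0, 1, 2, 11, 14, 16, 18, 19, 21, 22, 23, 24, 26, 27, 30, 31, 34, 35], [0, 3, 5, 6, 9, 10, 13, 17, 18, 20, 22, 24, 33, 35], [1, 3, 4, 5, 7, 9, 10, 14, 16, 17, 18, 20, 22, 23, 33]], [[4, 9, 10, 11, 12, 14, 17, 21, 22, 23, 25, 26, 27, 29, 30, 33], [0,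 4, 5, 7, 8, 9, 11, 12, 13, 16, 17, 19, 21, 26, 27, 30, 32, 33], [0, 4, 5, 6, 7, 8, 15, 23, 25, 26, 27, 29, 30, 31, 32, 34], [1, 2, 3, 4, 5, 7, 10, 14, 15, 16, 19, 20, 23, 31, 32, 34], [4, 5, 6, 8, 11, 13, 14, 17, 20, 23, 31, 32, 33, 34], [0, 2, 3, 4, 8, 10, 11, 12, 14, 15, 19, 22, 23, 35]], [[1, 2, 3, 4, 5, 7, 10, 13, 17, 18, 20, 21, 22, 23, 24, 31, 32, 34], [0, 1, 2, 4, 6, 7, 9, 11, 13, 14, 16, 17, 18, 19, 23, 24, 31, 32, 33, 34, 35], [1, 2, 3, 6, 7, 8, 11, 17, 18, 20, 21, 22, 33], [13, 14, 16, 17, 18, 19, 21, 22], [10, 11, 13, 14, 15, 16, 18, 20, 22, 23], [10, 13, 14, 15, 16, 17, 18, 19, 21, 22, 24], [13, 14, 15, 16, 17, 18, 19, 21, 22]], [[0, 1, 2, 4, 6, 7, 9, 10, 11, 13, 14, 17, 18, 20, 21, 22, 23, 31, 32, 33, 34, 35], [1, 2, 3, 6, 7, 8, 11, 14, 16, 19, 20, 33], [0, 3, 5, 6, 9, 10, 19, 20, 21, 22, 24, 33, 35],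 [13, 14, 16, 17, 18, 19, 21], [17, 18, 19], [12, 16, 18, 19, 22, 24], [10, 11, 13, 14, 15, 16, 18, 20], [13, 14, 17, 18, 19, 21]]]
  fuel := 300

end CfsgLib.SzEight
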