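import Mathlib.Algebra.BigOperators.Fin
import Mathlib.Data.Matrix.Mul
import Mathlib.Data.List.GetD

/-!
Matrices over coded coefficient rings as lists of rows of natural numbers.
-/

set_option autoImplicit false

namespace CfsgLib.SzEight

/-- Linear combination of coded rows, skipping the zero coefficients. -/
def comb (n : ℕ) (add mul : ℕ → ℕ → ℕ) : List ℕ → List (List ℕ) → List ℕ
  | a :: r, b :: B =>
    cond (Nat.beq a 0) (comb n add mul r B) (List.zipWith add (b.map (mul a)) (comb n add mul r B))
  | _, _ => List.replicate n 0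

/-- Product of coded matrices of size `n`. -/
def mmul (n : ℕ) (add mul : ℕ → ℕ → ℕ) (A B : List (List ℕ)) : List (List ℕ) :=
  A.map fun r => comb n add mul r B

/-- Shape check. -/
def wf (n : ℕ) (A : List (List ℕ)) : Bool := A.length == n && A.all fun r => r.length == n

/-- The identity. -/
def idc (n : ℕ) : List (List ℕ) :=
  (List.range n).map fun i => (List.range n).map fun j => if i = j then 1 else 0

/-- The matrix of a coded matrix. -/
def toMat {R : Type*} (n : ℕ) (val : ℕ → R) (A : List (List ℕ)) : Matrix (Fin n) (Fin n) R :=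
  fun i j => val ((A.getD i []).getD j 0)

theorem wf_iff {n : ℕ} {A : List (List ℕ)} :
    wf n A = true ↔ A.length = n ∧ ∀ r ∈ A, r.length = n := by
  simp [wf, List.all_eq_true]

theorem length_comb {n : ℕ} (add mul : ℕ → ℕ → ℕ) :
    ∀ (r : List ℕ) (B : List (List ℕ)), (∀ b ∈ B, b.length = n) →
      (comb n add mul r B).length = n
  | [], B, _ => by simp [comb]
  | _ :: _, [], _ => by simp [comb]
  | a :: r, b :: B, h => by
    have ih := length_comb add mul r B fun x hx => h x (List.mem_cons_of_mem _ hx)
    simp only [comb]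
    cases Nat.beq a 0
    · simp [ih, h b List.mem_cons_self]
    · exact ih

theorem wf_mmul {n : ℕ} (add mul : ℕ → ℕ → ℕ) {A B : List (List ℕ)} (hA : wf n A = true)
    (hB : wf n B = true) : wf n (mmul n add mul A B) = true := by
  rw [wf_iff] at hA hB ⊢
  refine ⟨by simp [mmul, hA.1], fun r hr => ?_⟩
  simp only [mmul, List.mem_map] at hr
  obtain ⟨s, -, rfl⟩ := hr
  exact length_comb add mul s B hB.2

theorem wf_idc (n : ℕ) : wf n (idc n) = true := by
  simp [wf_iff, idc]

variable {R : Type*} [Semiring R]

theorem val_comb {add mul : ℕ → ℕ → ℕ} {val : ℕ → R} (h0 : val 0 = 0)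
    (hadd : ∀ a b, val (add a b) = val a + val b) (hmul : ∀ a b, val (mul a b) = val a * val b)
    {n : ℕ} (j : Fin n) :
    ∀ (m : ℕ) (r : List ℕ) (B : List (List ℕ)), r.length = m → B.length = m →
      (∀ b ∈ B, b.length = n) →
      val ((comb n add mul r B).getD j 0) =
        ∑ k : Fin m, val (r.getD k 0) * val ((B.getD k []).getD j 0) := by
  intro m
  induction m with
  | zero =>
    intro r B hr hB _
    rw [List.length_eq_zero_iff] at hr hB
    subst hr hB
    simp [comb, h0]
  | succ m ih =>
    intro r B hr hB h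
    obtain ⟨a, r, rfl⟩ := List.exists_cons_of_length_eq_add_one hr
    obtain ⟨b, B, rfl⟩ := List.exists_cons_of_length_eq_add_one hB
    simp only [List.length_cons, Nat.add_right_cancel_iff] at hr hB
    have h' : ∀ x ∈ B, x.length = n := fun x hx => h x (List.mem_cons_of_mem _ hx)
    have ih' := ih r B hr hB h'
    rw [Fin.sum_univ_succ]
    simp only [comb, Fin.val_zero, List.getD_cons_zero, Fin.val_succ, List.getD_cons_succ]
    rw [← ih']
    cases hb : Nat.beq a 0
    · have hl : j.val < b.length := by rw [h b List.mem_cons_self]; exact j.2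
      have hl' : j.val < (comb n add mul r B).length := by rw [length_comb add mul r B h']; exact j.2
      simp [List.getD_eq_getElem?_getD, hl, hl', hadd, hmul]
    · rw [Nat.eq_of_beq_eq_true hb, h0, zero_mul, zero_add]
      rfl

theorem toMat_mmul {n : ℕ} {add mul : ℕ → ℕ → ℕ} {val : ℕ → R} (h0 : val 0 = 0)
    (hadd : ∀ a b, val (add a b) = val a + val b) (hmul : ∀ a b, val (mul a b) = val a * val b)
    {A B : List (List ℕ)} (hA : wf n A = true) (hB : wf n B = true) :
    toMat n val (mmul n add mul A B) = toMat n val A * toMat n val B := by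
  rw [wf_iff] at hA hB
  ext i j
  have hi : i.val < A.length := by rw [hA.1]; exact i.2
  rw [Matrix.mul_apply]
  have e : (mmul n add mul A B).getD i [] = comb n add mul (A.getD i []) B := by
    simp [mmul, List.getD_eq_getElem?_getD, hi]
  show val (((mmul n add mul A B).getD i []).getD j 0) = _
  rw [e]
  refine val_comb h0 hadd hmul j n _ B ?_ hB.1 hB.2
  rw [List.getD_eq_getElem _ _ hi]
  exact hA.2 _ (List.getElem_mem hi)

theorem toMat_idc {n : ℕ} {val : ℕ → R} (h0 : val 0 = 0) (h1 : val 1 = 1) :
    toMat n val (idc n) = 1 := by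
  ext i j
  simp only [toMat, idc, List.getD_eq_getElem?_getD, List.getElem?_map, List.getElem?_range,
    i.2, j.2, Option.map_some, Option.getD_some, Matrix.one_apply]
  by_cases h : i = j
  · simp [h, h1]
  · rw [if_neg (fun e => h (Fin.ext e)), if_neg h, h0]

end CfsgLib.SzEight
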