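import Cfsg.Agent.SzEight.Field
import Cfsg.Agent.SzEight.Mat
import Cfsg.Agent.SzEight.Data
import Cfsg.Agent.Suzuki.LieModel
import Mathlib.Data.ZMod.Basic
import Mathlib.Algebra.Group.Prod

/-!
A fourfold central cover of the Suzuki group over the field with eight elements, inside
`GL₈(5) × GL₈(5) × GL₄(8)`.
-/

set_option autoImplicit false
set_option linter.style.haveILetI false

namespace CfsgLib.SzEight

open CfsgLib.Schur.Pc (ev)

/-- Sum modulo five. -/
def aadd (a b : ℕ) : ℕ := Nat.mod (Nat.add a b) 5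

/-- Product modulo five. -/
def amul (a b : ℕ) : ℕ := Nat.mod (Nat.mul a b) 5

/-- The value modulo five. -/
def aval (a : ℕ) : ZMod 5 := (a : ZMod 5)

theorem aval_add (a b : ℕ) : aval (aadd a b) = aval a + aval b := by
  show (((a + b) % 5 : ℕ) : ZMod 5) = _
  simp [aval, ZMod.natCast_mod]

theorem aval_mul (a b : ℕ) : aval (amul a b) = aval a * aval b := by
  show (((a * b) % 5 : ℕ) : ZMod 5) = _
  simp [aval, ZMod.natCast_mod]

/-- The identity triple. -/
def tid : Tri := (idc 8, idc 8, idc 4)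

/-- Product of triples. -/
def tmul (x y : Tri) : Tri :=
  (mmul 8 aadd amul x.1 y.1, mmul 8 aadd amul x.2.1 y.2.1, mmul 4 fadd fmul x.2.2 y.2.2)

/-- Shape of a triple. -/
def twf (x : Tri) : Bool := wf 8 x.1 && wf 8 x.2.1 && wf 4 x.2.2

/-- The code of a generator. -/
def code (s : ℕ) : Tri := gens.getD s tid

/-- The code of a word. -/
def wcode : List ℕ → Tri
  | [] => tid
  | s :: w => tmul (code s) (wcode w)

/-- Two words with the same code. -/
def weq (u v : List ℕ) : Bool := wcode u == wcode v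

/-- A word for the inverse of a generator. -/
def inv1 (s : ℕ) : List ℕ :=
  if s < 6 then [s, s, s] else if s = 8 then [8, 8, 8, 8, 8, 8] else if s < 10 then [s] else []

theorem twf_tid : twf tid = true := by decide +kernel

theorem twf_code (s : ℕ) : twf (code s) = true := by
  by_cases h : s < gens.length
  · have hall : gens.all twf = true := by decide +kernel
    rw [code, List.getD_eq_getElem _ _ h]
    exact List.all_eq_true.1 hall _ (List.getElem_mem h)
  · rw [code, List.getD_eq_default _ _ (not_lt.1 h), twf_tid]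

theorem twf_tmul {x y : Tri} (hx : twf x = true) (hy : twf y = true) : twf (tmul x y) = true := by
  simp only [twf, Bool.and_eq_true] at hx hy ⊢
  exact ⟨⟨wf_mmul _ _ hx.1.1 hy.1.1, wf_mmul _ _ hx.1.2 hy.1.2⟩, wf_mmul _ _ hx.2 hy.2⟩

theorem twf_wcode : ∀ w, twf (wcode w) = true
  | [] => twf_tid
  | s :: w => twf_tmul (twf_code s) (twf_wcode w)

universe u

variable (F : Type u) [Field F]

/-- The ambient monoid. -/
abbrev Amb : Type u :=
  Matrix (Fin 8) (Fin 8) (ZMod 5) × Matrix (Fin 8) (Fin 8) (ZMod 5) × Matrix (Fin 4) (Fin 4) F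

variable {F}

/-- Meaning of a triple. -/
def sem (α : F) (x : Tri) : Amb F :=
  (toMat 8 aval x.1, toMat 8 aval x.2.1, toMat 4 (fval α) x.2.2)

theorem sem_tid (α : F) : sem α tid = 1 := by
  rw [sem, tid, toMat_idc (by simp [aval]) (by simp [aval]),
    toMat_idc (fval_zero α) (fval_one α)]
  rfl

variable [CharP F 2] {α : F}

theorem sem_tmul (hα : α ^ 3 = α + 1) {x y : Tri} (hx : twf x = true) (hy : twf y = true) :
    sem α (tmul x y) = sem α x * sem α y := by
  simp only [twf, Bool.and_eq_true] at hx hy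
  simp only [sem, tmul, Prod.mk_mul_mk]
  rw [toMat_mmul (by simp [aval]) aval_add aval_mul hx.1.1 hy.1.1,
    toMat_mmul (by simp [aval]) aval_add aval_mul hx.1.2 hy.1.2,
    toMat_mmul (fval_zero α) (fval_add α) (fval_mul hα) hx.2 hy.2]

theorem sem_wcode (hα : α ^ 3 = α + 1) : ∀ w,
    sem α (wcode w) = (w.map fun s => sem α (code s)).prod
  | [] => sem_tid α
  | s :: w => by
    rw [wcode, sem_tmul hα (twf_code s) (twf_wcode w), sem_wcode hα w, List.map_cons, List.prod_cons]

theorem sem_append (hα : α ^ 3 = α + 1) (u v : List ℕ) :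
    sem α (wcode (u ++ v)) = sem α (wcode u) * sem α (wcode v) := by
  rw [sem_wcode hα, sem_wcode hα, sem_wcode hα, List.map_append, List.prod_append]

theorem sem_eq_one (hα : α ^ 3 = α + 1) {w : List ℕ} (h : weq w [] = true) :
    sem α (wcode w) = 1 := by
  rw [weq, beq_iff_eq] at h
  rw [h, wcode, sem_tid]

theorem inv1_ok : ∀ s < 10, (weq (s :: inv1 s) [] && weq (inv1 s ++ [s]) []) = true := by decide +kernel

theorem code_of_le {s : ℕ} (hs : 10 ≤ s) : code s = tid := by
  rw [code, List.getD_eq_default]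
  exact le_trans (le_of_eq (by decide +kernel)) hs

theorem sem_code_mul (hα : α ^ 3 = α + 1) (s : ℕ) :
    sem α (code s) * sem α (wcode (inv1 s)) = 1 ∧ sem α (wcode (inv1 s)) * sem α (code s) = 1 := by
  by_cases hs : s < 10
  · have h := inv1_ok s hs
    rw [Bool.and_eq_true] at h
    constructor
    · rw [← sem_tmul hα (twf_code s) (twf_wcode _)]
      exact sem_eq_one hα (w := s :: inv1 s) h.1
    · have := sem_eq_one hα h.2
      rwa [sem_append hα, sem_wcode hα [s], List.map_cons, List.map_nil, List.prod_singleton] at this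
  · have h : inv1 s = [] := by simp only [inv1]; split_ifs <;> first | rfl | omega
    rw [code_of_le (not_lt.1 hs), h, wcode, sem_tid]
    simp

/-- The generators as units. -/
def yu (hα : α ^ 3 = α + 1) (s : ℕ) : (Amb F)ˣ :=
  ⟨sem α (code s), sem α (wcode (inv1 s)), (sem_code_mul hα s).1, (sem_code_mul hα s).2⟩

/-- The cover. -/
def cover (hα : α ^ 3 = α + 1) : Subgroup (Amb F)ˣ := Subgroup.closure (Set.range (yu hα))

/-- The generators in the cover. -/
def gen (hα : α ^ 3 = α + 1) (s : ℕ) : cover hα := ⟨yu hα s, Subgroup.subset_closure ⟨s, rfl⟩⟩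

theorem val_ev (hα : α ^ 3 = α + 1) : ∀ w : List ℕ,
    ((ev (gen hα) w : cover hα) : (Amb F)ˣ).val = sem α (wcode w)
  | [] => (sem_tid α).symm
  | s :: w => by
    rw [CfsgLib.Schur.Pc.ev_cons, Subgroup.coe_mul, Units.val_mul, val_ev hα w, wcode,
      sem_tmul hα (twf_code s) (twf_wcode w)]
    rfl

theorem ev_eq_of_weq (hα : α ^ 3 = α + 1) {u v : List ℕ} (h : weq u v = true) :
    ev (gen hα) u = ev (gen hα) v := by
  rw [weq, beq_iff_eq] at h
  exact Subtype.ext (Units.ext (by rw [val_ev, val_ev, h]))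

theorem gen_eq_ev (hα : α ^ 3 = α + 1) (s : ℕ) : gen hα s = ev (gen hα) [s] := by
  simp [CfsgLib.Schur.Pc.ev]

theorem gen_eq_one (hα : α ^ 3 = α + 1) {s : ℕ} (hs : 10 ≤ s) : gen hα s = 1 :=
  Subtype.ext (Units.ext (by
    show sem α (code s) = 1
    rw [code_of_le hs, sem_tid]))

theorem closure_gen (hα : α ^ 3 = α + 1) : Subgroup.closure (Set.range (gen hα)) = ⊤ := by
  refine Subgroup.map_injective (cover hα).subtype_injective ?_
  rw [MonoidHom.map_closure, ← Set.range_comp, ← MonoidHom.range_eq_map, Subgroup.range_subtype]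
  rfl

theorem finite_cover [Fintype F] (hα : α ^ 3 = α + 1) : Finite (cover hα) := Subtype.finite

/-- Projection to the natural representation. -/
def toNatural (hα : α ^ 3 = α + 1) : cover hα →* GL (Fin 4) F :=
  (Units.map ((MonoidHom.snd (Matrix (Fin 8) (Fin 8) (ZMod 5)) (Matrix (Fin 4) (Fin 4) F)).comp
    (MonoidHom.snd (Matrix (Fin 8) (Fin 8) (ZMod 5)) _))).comp (cover hα).subtype

theorem toNatural_ev (hα : α ^ 3 = α + 1) (w : List ℕ) :
    ((toNatural hα (ev (gen hα) w) : GL (Fin 4) F) : Matrix (Fin 4) (Fin 4) F) =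
      toMat 4 (fval α) (wcode w).2.2 := by
  show ((ev (gen hα) w : cover hα) : (Amb F)ˣ).val.2.2 = _
  rw [val_ev]
  rfl

end CfsgLib.SzEight
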