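import Cfsg.Agent.Suzuki.Field

/-!
The field with eight elements as the numbers below eight: the number with bits `b₀ b₁ b₂` stands for
`b₀ + b₁ α + b₂ α²`, where `α³ = α + 1`.
-/

set_option autoImplicit false
set_option linter.style.haveILetI false

namespace CfsgLib.SzEight

/-- Product in the field with eight elements. -/
def fmul (a b : ℕ) : ℕ :=
  Nat.land (Nat.shiftRight 2821848294356612419217921029917578219971947684264937521152
    (Nat.mul 3 (Nat.add (Nat.mul 8 (Nat.mod a 8)) (Nat.mod b 8)))) 7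

theorem fmul_mod (a b : ℕ) : fmul (a % 8) (b % 8) = fmul a b := by
  unfold fmul
  rw [show Nat.mod (a % 8) 8 = Nat.mod a 8 from Nat.mod_mod a 8,
    show Nat.mod (b % 8) 8 = Nat.mod b 8 from Nat.mod_mod b 8]

/-- Sum in the field with eight elements. -/
def fadd (a b : ℕ) : ℕ := Nat.xor (a % 8) (b % 8)

/-- The element with a given code. -/
def fval {F : Type*} [Semiring F] (α : F) (a : ℕ) : F :=
  ((if (a % 8).testBit 0 then 1 else 0) + (if (a % 8).testBit 1 then α else 0)) +
    (if (a % 8).testBit 2 then α ^ 2 else 0)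

variable {F : Type*} [Field F]

theorem fval_mod (α : F) (a : ℕ) : fval α (a % 8) = fval α a := by simp [fval, Nat.mod_mod]

theorem fval_zero (α : F) : fval α 0 = 0 := by simp [fval]

theorem fval_one (α : F) : fval α 1 = 1 := by simp [fval, Nat.testBit, Nat.shiftRight_eq_div_pow]

variable [CharP F 2] {α : F}

theorem fval_add (α : F) (a b : ℕ) : fval α (fadd a b) = fval α a + fval α b := by
  have h2 : (2 : F) = 0 := CharTwo.two_eq_zero
  have key : ∀ x < 8, ∀ y < 8, fval α (fadd x y) = fval α x + fval α y := by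
    intro x hx y hy
    interval_cases x <;> interval_cases y <;>
      simp [fval, fadd, Nat.testBit, Nat.shiftRight_eq_div_pow] <;>
      (try ring_nf) <;> (try simp [h2])
  have := key (a % 8) (Nat.mod_lt _ (by norm_num)) (b % 8) (Nat.mod_lt _ (by norm_num))
  rwa [fval_mod, fval_mod, show fadd (a % 8) (b % 8) = fadd a b by simp [fadd, Nat.mod_mod]] at this

theorem fval_mul (hα : α ^ 3 = α + 1) (a b : ℕ) : fval α (fmul a b) = fval α a * fval α b := by
  have h2 : (2 : F) = 0 := CharTwo.two_eq_zero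
  have h4 : α ^ 4 = α ^ 2 + α := by rw [pow_succ, hα]; ring
  have key : ∀ x < 8, ∀ y < 8, fval α (fmul x y) = fval α x * fval α y := by
    have tab : ∀ x < 8, ∀ y < 8, fmul x y = [0, 0, 0, 0, 0, 0, 0, 0,
        0, 1, 2, 3, 4, 5, 6, 7, 0, 2, 4, 6, 3, 1, 7, 5, 0, 3, 6, 5, 7, 4, 1, 2,
        0, 4, 3, 7, 6, 2, 5, 1, 0, 5, 1, 4, 2, 7, 3, 6, 0, 6, 7, 1, 5, 3, 2, 4,
        0, 7, 5, 2, 1, 6, 4, 3].getD (8 * x + y) 0 := by decide +kernel
    intro x hx y hy
    rw [tab x hx y hy]
    interval_cases x <;> interval_cases y <;>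
      simp [fval, Nat.testBit, Nat.shiftRight_eq_div_pow] <;> (try ring_nf) <;>
      (try simp only [hα, h4]) <;> (try ring_nf) <;> simp [h2, show (3 : F) = 1 by linear_combination h2,
        show (4 : F) = 0 by linear_combination 2 * h2, show (5 : F) = 1 by linear_combination 2 * h2]
  have := key (a % 8) (Nat.mod_lt _ (by norm_num)) (b % 8) (Nat.mod_lt _ (by norm_num))
  rwa [fval_mod, fval_mod, fmul_mod] at this

theorem fval_injective (hα : α ^ 3 = α + 1) {a b : ℕ} (ha : a < 8) (hb : b < 8)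
    (h : fval α a = fval α b) : a = b := by
  have hne : ∀ x < 8, x ≠ 0 → fval α x ≠ 0 := by
    intro x hx h0 e
    have hy : ∃ y < 8, fmul x y = 1 := by
      have h : ∀ u < 8, u ≠ 0 → ∃ y < 8, fmul u y = 1 := by decide
      exact h x hx h0
    obtain ⟨y, -, hy⟩ := hy
    have := fval_mul hα x y
    rw [hy, fval_one, e, zero_mul] at this
    exact one_ne_zero this
  by_contra hne'
  have hx : fadd a b < 8 ∧ fadd a b ≠ 0 := by
    interval_cases a <;> interval_cases b <;> first | exact absurd rfl hne' | decide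
  refine hne _ hx.1 hx.2 ?_
  rw [fval_add, h, CharTwo.add_self_eq_zero]

section Exists

variable {F : Type*} [Field F] [Fintype F]

theorem charP_two (hF : Fintype.card F = 8) : CharP F 2 :=
  (⟨le_refl 1, by rw [hF]; norm_num⟩ : CfsgLib.Suzuki.SzField F 1).charP

/-- A root of `X³ + X + 1`. -/
theorem exists_root (hF : Fintype.card F = 8) : ∃ α : F, α ^ 3 = α + 1 := by
  classical
  haveI := charP_two hF
  obtain ⟨x, -, hx⟩ := Finset.exists_mem_notMem_of_card_lt_card
    (s := ({0, 1} : Finset F)) (t := (Finset.univ : Finset F)) (by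
      rw [Finset.card_univ, hF]
      exact lt_of_le_of_lt Finset.card_le_two (by norm_num))
  simp only [Finset.mem_insert, Finset.mem_singleton, not_or] at hx
  have h8 : x ^ 8 = x := by rw [← hF]; exact FiniteField.pow_card x
  have h2 : (2 : F) = 0 := CharTwo.two_eq_zero
  have h1 : x + 1 ≠ 0 := fun e => hx.2 (CharTwo.add_eq_zero.1 e)
  have key : x * ((x + 1) * ((x ^ 3 + x + 1) * (x ^ 3 + x ^ 2 + 1))) = 0 := by
    linear_combination h8 + (x + x ^ 2 + x ^ 3 + 2 * x ^ 4 + 2 * x ^ 5 + x ^ 6 + x ^ 7) * h2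
  simp only [mul_eq_zero, hx.1, h1, false_or] at key
  rcases key with e | e
  · refine ⟨x, ?_⟩
    linear_combination e - (x + 1) * h2
  · refine ⟨x⁻¹, ?_⟩
    field_simp [hx.1]
    linear_combination -e + h2

theorem fval_surjective (hF : Fintype.card F = 8) [CharP F 2] {α : F} (hα : α ^ 3 = α + 1) (x : F) :
    ∃ a < 8, fval α a = x := by
  have hb : Function.Bijective (fun a : Fin 8 => fval α a.val) :=
    (Fintype.bijective_iff_injective_and_card _).2
      ⟨fun a b h => Fin.ext (fval_injective hα a.2 b.2 h), by simp [hF]⟩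
  obtain ⟨a, ha⟩ := hb.2 x
  exact ⟨a.val, a.2, ha⟩

end Exists

end CfsgLib.SzEight
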