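import Cfsg.Agent.SzEight.Cover

/-!
The natural projection of the cover maps onto the Suzuki group.
-/

set_option autoImplicit false
set_option linter.style.haveILetI false

namespace CfsgLib.SzEight

open CfsgLib.Schur.Pc (ev)
open CfsgLib.Suzuki

/-- Fourth power. -/
def f4 (a : ℕ) : ℕ := fmul (fmul a a) (fmul a a)

/-- The code of a root element. -/
def uniCode (a b : ℕ) : List (List ℕ) :=
  [[1, a, fadd b (fmul a (f4 a)), fadd (fadd (fmul a b) (fmul (fmul a a) (f4 a))) (f4 b)],
   [0, 1, f4 a, b], [0, 0, 1, a], [0, 0, 0, 1]]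

/-- The code of a torus element, from the element and its inverse. -/
def torCode (c d : ℕ) : List (List ℕ) :=
  [[fmul (fmul c c) c, 0, 0, 0], [0, fmul c c, 0, 0], [0, 0, fmul d d, 0],
   [0, 0, 0, fmul (fmul d d) d]]

/-- The code of the Weyl element. -/
def weylCode : List (List ℕ) := [[0, 0, 0, 1], [0, 0, 1, 0], [0, 1, 0, 0], [1, 0, 0, 0]]

/-- Root element words are right. -/
def okU : Bool :=
  (List.range 8).all fun a => (List.range 8).all fun b =>
    (wcode ((uWords.getD a []).getD b [])).2.2 == uniCode a b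

/-- Torus words are right. -/
def okT : Bool :=
  tWords.all fun q => fmul q.1 q.2.1 == 1 && (wcode q.2.2).2.2 == torCode q.1 q.2.1

theorem okU_true : okU = true := by decide +kernel

theorem okT_true : okT = true := by decide +kernel

theorem code_root : ∀ s < 6, (wcode [s]).2.2 =
    uniCode (if s < 3 then 2 ^ s else 0) (if s < 3 then 0 else 2 ^ (s - 3)) := by decide +kernel

theorem code_central : ∀ s < 8, 6 ≤ s → (wcode [s]).2.2 = idc 4 := by decide +kernel

theorem code_torus : (wcode [8]).2.2 = torCode 2 5 := by decide +kernel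

theorem code_weyl : (wcode [9]).2.2 = weylCode := by decide +kernel

theorem fmul_two_five : fmul 2 5 = 1 := by decide +kernel

theorem length_tWords : tWords.length = 7 := by decide +kernel

theorem tWords_code : ∀ c < 7, (tWords.getD c (0, 0, [])).1 = c + 1 := by decide +kernel

variable {F : Type*} [Field F] [CharP F 2] {α : F}

theorem toMat_uniCode (hα : α ^ 3 = α + 1) (a b : ℕ) :
    toMat 4 (fval α) (uniCode a b) = uniMat 1 (fval α a) (fval α b) := by
  have h4 : ∀ x, fval α (f4 x) = θ 1 (fval α x) := fun x => by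
    show fval α (f4 x) = fval α x ^ (2 ^ (1 + 1))
    rw [f4, fval_mul hα, fval_mul hα]; ring
  ext i j
  fin_cases i <;> fin_cases j <;>
    simp [toMat, uniCode, uniMat, szF, fval_zero, fval_one, fval_add, fval_mul hα, h4, pow_two]

theorem toMat_torCode (hα : α ^ 3 = α + 1) {c d : ℕ} (μ : Fˣ) (hc : fval α c = μ)
    (hcd : fmul c d = 1) : toMat 4 (fval α) (torCode c d) = torMat 1 μ := by
  have hd : fval α d = (μ : F)⁻¹ :=
    eq_inv_of_mul_eq_one_right (by rw [← hc, ← fval_mul hα, hcd, fval_one])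
  ext i j
  fin_cases i <;> fin_cases j <;>
    simp [toMat, torCode, torMat, fval_zero, fval_mul hα, hc, hd, pow_succ, mul_assoc]

theorem toMat_weylCode : toMat 4 (fval α) weylCode = (weylMat : Matrix (Fin 4) (Fin 4) F) := by
  ext i j
  fin_cases i <;> fin_cases j <;> simp [toMat, weylCode, weylMat, fval_zero, fval_one]

variable [Fintype F]

theorem szField (hF : Fintype.card F = 8) : SzField F 1 := ⟨le_refl 1, by rw [hF]; norm_num⟩

theorem lie_eq (hF : Fintype.card F = 8) :
    Cfsg.Lie.Sz F 4 = (Cfsg.Sz F 1).map Matrix.SpecialLinearGroup.toGL := by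
  have h := lieSz_eq (szField hF)
  norm_num at h
  exact h

theorem root_mem (hα : α ^ 3 = α + 1) (hF : Fintype.card F = 8) (s : ℕ) (h : s < 6) :
    toNatural hα (gen hα s) ∈ (Cfsg.Sz F 1).map Matrix.SpecialLinearGroup.toGL := by
  have hS := szField hF
  have he := toNatural_ev hα [s]
  rw [← gen_eq_ev] at he
  rw [code_root s h, toMat_uniCode hα] at he
  exact Subgroup.mem_map.2 ⟨_, uni_mem hS _ _, Units.ext he.symm⟩

omit [Fintype F] in
theorem central_eq_one (hα : α ^ 3 = α + 1) (s : ℕ) (h : s < 8) (h' : 6 ≤ s) :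
    toNatural hα (gen hα s) = 1 := by
  have he := toNatural_ev hα [s]
  rw [← gen_eq_ev, code_central s h h', toMat_idc (fval_zero α) (fval_one α)] at he
  exact Units.ext he

theorem torus_mem (hα : α ^ 3 = α + 1) (hF : Fintype.card F = 8) :
    toNatural hα (gen hα 8) ∈ (Cfsg.Sz F 1).map Matrix.SpecialLinearGroup.toGL := by
  have hS := szField hF
  have he := toNatural_ev hα [8]
  rw [← gen_eq_ev] at he
  have h2 : fval α 2 ≠ 0 := fun e => by
    have := fval_mul hα 2 5
    rw [fmul_two_five, fval_one, e, zero_mul] at this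
    exact one_ne_zero this
  rw [code_torus, toMat_torCode hα (Units.mk0 _ h2) rfl fmul_two_five] at he
  exact Subgroup.mem_map.2 ⟨_, tor_mem hS _, Units.ext he.symm⟩

theorem weyl_mem' (hα : α ^ 3 = α + 1) (hF : Fintype.card F = 8) :
    toNatural hα (gen hα 9) ∈ (Cfsg.Sz F 1).map Matrix.SpecialLinearGroup.toGL := by
  have hS := szField hF
  have he := toNatural_ev hα [9]
  rw [← gen_eq_ev, code_weyl, toMat_weylCode] at he
  exact Subgroup.mem_map.2 ⟨_, weyl_mem hS, Units.ext he.symm⟩

theorem gen_mem_sz (hα : α ^ 3 = α + 1) (hF : Fintype.card F = 8) (s : ℕ) :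
    toNatural hα (gen hα s) ∈ (Cfsg.Sz F 1).map Matrix.SpecialLinearGroup.toGL := by
  rcases Nat.lt_or_ge s 6 with h | h
  · exact root_mem hα hF s h
  rcases Nat.lt_or_ge s 8 with h' | h'
  · rw [central_eq_one hα s h' h]; exact one_mem _
  rcases Nat.lt_or_ge s 9 with h'' | h''
  · obtain rfl : s = 8 := Nat.le_antisymm (Nat.lt_succ_iff.1 h'') h'
    exact torus_mem hα hF
  rcases Nat.lt_or_ge s 10 with h3 | h3
  · obtain rfl : s = 9 := Nat.le_antisymm (Nat.lt_succ_iff.1 h3) h''
    exact weyl_mem' hα hF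
  · rw [gen_eq_one hα h3, map_one]; exact one_mem _

theorem toNatural_mem (hα : α ^ 3 = α + 1) (hF : Fintype.card F = 8) (g : cover hα) :
    toNatural hα g ∈ Cfsg.Lie.Sz F 4 := by
  rw [lie_eq hF]
  have hle : Subgroup.closure (Set.range (gen hα)) ≤
      ((Cfsg.Sz F 1).map Matrix.SpecialLinearGroup.toGL).comap (toNatural hα) := by
    rw [Subgroup.closure_le]
    rintro _ ⟨s, rfl⟩
    exact gen_mem_sz hα hF s
  rw [closure_gen] at hle
  exact hle (Subgroup.mem_top g)

/-- The projection onto the Suzuki group. -/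
def toSz (hα : α ^ 3 = α + 1) (hF : Fintype.card F = 8) : cover hα →* Cfsg.Lie.Sz F 4 :=
  (toNatural hα).codRestrict _ (toNatural_mem hα hF)

theorem toSz_surjective (hα : α ^ 3 = α + 1) (hF : Fintype.card F = 8) :
    Function.Surjective (toSz hα hF) := by
  have hS := szField hF
  have key : (Cfsg.Sz F 1).map Matrix.SpecialLinearGroup.toGL ≤ (toNatural hα).range := by
    have hu : ∀ x y : F, Matrix.SpecialLinearGroup.toGL (uni 1 x y) ∈ (toNatural hα).range := by
      intro x y
      obtain ⟨a, ha, rfl⟩ := fval_surjective hF hα x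
      obtain ⟨b, hb, rfl⟩ := fval_surjective hF hα y
      have h := okU_true
      simp only [okU, List.all_eq_true, List.mem_range, beq_iff_eq] at h
      refine ⟨ev (gen hα) ((uWords.getD a []).getD b []), Units.ext ?_⟩
      rw [toNatural_ev, h a ha b hb, toMat_uniCode hα]
      rfl
    have hw : Matrix.SpecialLinearGroup.toGL (weyl : Matrix.SpecialLinearGroup (Fin 4) F) ∈
        (toNatural hα).range := by
      refine ⟨ev (gen hα) [9], Units.ext ?_⟩
      rw [toNatural_ev, code_weyl, toMat_weylCode]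
      rfl
    have ht : ∀ μ : Fˣ, Matrix.SpecialLinearGroup.toGL (tor 1 μ) ∈ (toNatural hα).range := by
      intro μ
      obtain ⟨c, hc, e⟩ := fval_surjective hF hα (μ : F)
      have hc0 : c ≠ 0 := fun h0 => μ.ne_zero (by rw [← e, h0, fval_zero])
      have hc7 : c - 1 < 7 := by omega
      have hq := tWords_code (c - 1) hc7
      have hlen : c - 1 < tWords.length := lt_of_lt_of_eq hc7 length_tWords.symm
      rw [List.getD_eq_getElem _ _ hlen] at hq
      have h2 := okT_true
      simp only [okT, List.all_eq_true, Bool.and_eq_true, beq_iff_eq] at h2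
      obtain ⟨h3, h4⟩ := h2 _ (List.getElem_mem hlen)
      refine ⟨ev (gen hα) (tWords[c - 1]).2.2, Units.ext ?_⟩
      rw [toNatural_ev, h4, toMat_torCode hα μ (by rw [hq, show c - 1 + 1 = c by omega, e]) h3]
      rfl
    rintro _ ⟨g, hg, rfl⟩
    rcases bruhat hS ⟨g, hg⟩ with ⟨a, b, μ, e⟩ | ⟨x, y, a, b, μ, e⟩
    · have e' : g = uni 1 a b * tor 1 μ := congrArg Subtype.val e
      rw [e', map_mul]
      exact mul_mem (hu a b) (ht μ)
    · have e' : g = uni 1 x y * weyl * (uni 1 a b * tor 1 μ) := congrArg Subtype.val e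
      rw [e', map_mul, map_mul, map_mul]
      exact mul_mem (mul_mem (hu x y) hw) (mul_mem (hu a b) (ht μ))
  intro g
  have hg : (g : GL (Fin 4) F) ∈ (Cfsg.Sz F 1).map Matrix.SpecialLinearGroup.toGL := by
    rw [← lie_eq hF]; exact g.2
  obtain ⟨e, he⟩ := key hg
  exact ⟨e, Subtype.ext he⟩

theorem card_suzuki (hF : Fintype.card F = 8) : Nat.card (Cfsg.Lie.Sz F 4) = 29120 := by
  have hS := szField hF
  rw [show Nat.card (Cfsg.Lie.Sz F 4) = Nat.card (Cfsg.Sz F 1) from
    (Nat.card_congr (lieSzEquiv hS).toEquiv).symm, card_sz hS, hF]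
  norm_num

theorem suzuki_perfect (hF : Fintype.card F = 8) :
    commutator (Cfsg.Lie.Sz F 4) = ⊤ := by
  have hS := szField hF
  have h : (commutator (Cfsg.Sz F 1)).map (lieSzEquiv hS).toMonoidHom =
      commutator (Cfsg.Lie.Sz F (2 ^ (1 + 1))) := by
    rw [commutator_def, Subgroup.map_commutator,
      Subgroup.map_top_of_surjective _ (lieSzEquiv hS).surjective, ← commutator_def]
  rw [commutator_sz_eq_top hS,
    Subgroup.map_top_of_surjective _ (lieSzEquiv hS).surjective] at h
  exact h.symm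

end CfsgLib.SzEight
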